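import Cfsg.Agent.Mrg.RankTwoClose.XSide.Main
import Cfsg.Agent.Mrg.Omega.Close.Base


/-!
# `U₅(q)`: the end of type beta, `dim_F Φ = 1`

* `char2At` : in a group of characteristic 2 type, `O₂(C(z))` contains its centraliser for a 2-central `z`;
* `known_of_sides` : `LSide`, `XFields` and `G = ⟨N(R), N(V)⟩` ⟹ `G` is known;
* `known_of_out` : from `GIn`, `Fld`, `Ext`, `Out`, `dim_F Φ = 1`.
-/

set_option autoImplicit false
set_option linter.unusedSectionVars false

open Subgroup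

universe u

namespace Cfsg.Agent.RankTwoClose.UFive.Known

open Cfsg.Agent.ZN Cfsg.Agent.Omega.MinPar Cfsg.Agent.MinSimple.VModule
open Cfsg.Agent.Omega.RootLemma Cfsg.Agent.Omega.Exits Cfsg.Agent.Omega.Close.Base
open Cfsg.Agent.RankTwoClose.UFive.Glue Cfsg.Agent.RankTwoClose.UFive.LSide Cfsg.Agent.RankTwoClose.XSide
open Cfsg.Agent.Omega.NOne.SU

variable {G : Type u} [Group G]

/-- `O₂(C(z))` contains its centraliser -/
theorem char2At [Finite G] (S : Sylow 2 G) (hG : IsCharacteristicTwoType G) {z : G} (h2 : z * z = 1)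
    (h1 : z ≠ 1) (hS : ∀ s ∈ S, s * z = z * s) : Char2At z := by
  have hSL : (S : Subgroup G) ≤ centralizer ({z} : Set G) := by
    intro s hs
    rw [mem_centralizer_singleton_iff]
    exact hS s hs
  have hloc := isLoc_centralizer S (by rw [pow_two]; exact h2) h1 hSL
  refine ⟨o2 (centralizer ({z} : Set G)), ?_, o2_isPGroup _, ?_, ?_⟩
  · intro x hx
    exact mem_centralizer_singleton_iff.1 (o2_le _ hx)
  · intro d hd x hx
    exact (mem_normalizer_iff.1 (le_normalizer_o2 _ (mem_centralizer_singleton_iff.2 hd)) x).1 hx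
  · intro d hd h
    refine hloc.char2 S hG (mem_inf.2 ⟨mem_centralizer_singleton_iff.2 hd, ?_⟩)
    rw [mem_centralizer_iff]
    intro x hx
    exact (h x hx).symm

/-- a nontrivial normal subgroup of `S` contains a central element of order `2` -/
theorem exists_central [Finite G] (S : Sylow 2 G) {R : Subgroup G} (hR : R ≤ S)
    (hS : (S : Subgroup G) ≤ normalizer (R : Set G)) (h1 : R ≠ ⊥) :
    ∃ z ∈ R, z ≠ 1 ∧ z * z = 1 ∧ ∀ s ∈ S, s * z = z * s := by
  have : Fact (Nat.Prime 2) := ⟨Nat.prime_two⟩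
  have hn : (R.subgroupOf (S : Subgroup G)).Normal := normal_subgroupOf_iff_le_normalizer hR |>.2 hS
  have h2 : R.subgroupOf (S : Subgroup G) ≠ ⊥ := by
    rw [Ne, subgroupOf_eq_bot, disjoint_iff, inf_of_le_left hR]
    exact h1
  obtain ⟨z, hz, hzc, ho⟩ := Transfer.PGroupNormal.exists_mem_inf_center_orderOf S.isPGroup' _ h2
  refine ⟨z, mem_subgroupOf.1 hz, ?_, ?_, ?_⟩
  · rintro h0
    rw [OneMemClass.coe_eq_one] at h0
    rw [h0, orderOf_one] at ho
    exact absurd ho (by norm_num)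
  · have h3 := pow_orderOf_eq_one z
    rw [ho, pow_two] at h3
    exact congrArg Subtype.val h3
  · intro s hs
    exact congrArg Subtype.val (mem_center_iff.1 hzc ⟨s, hs⟩)

/-- **The end.** -/
theorem known_of_sides [Finite G] {S : Sylow 2 G} {L X U Q O V R A : Subgroup G} {n₀ m₀ w₀ : G}
    (h44 : St1144.{u}) (hB : Bender.{u}) (hs : IsSimpleGroup G) (hna : ¬ IsMulCommutative G)
    (hG : IsCharacteristicTwoType G) (l : LSide S L U Q V R A n₀ w₀) (x : XFields X U Q O V R m₀)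
    (hSR : (S : Subgroup G) ≤ normalizer (R : Set G))
    (hT : normalizer (R : Set G) ⊔ normalizer (V : Set G) = ⊤) : IsKnownSimple' G := by
  obtain ⟨a, ha, -, -, ha1, -, -⟩ := x.pair
  obtain ⟨z, hz, hz1, hz2, hzS⟩ := exists_central S ((x.RV.trans x.VU).trans l.US) hSR
    (by rintro h; rw [h, mem_bot] at ha; exact ha1 ha)
  obtain ⟨P, hr, hsp⟩ := exists_split l x hz hz1 hzS (char2At S hG hz2 hz1 hzS) hB
  have hbn : BN2 ↥(L ⊔ X) := ⟨P, by omega, hsp⟩
  have hN : ((L ⊔ X : Subgroup G)).Normal := by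
    rw [← normalizer_eq_top_iff, eq_top_iff, ← hT]
    exact sup_le (NR_le l x) (NV_le l x)
  have htop : L ⊔ X = ⊤ := hN.eq_bot_or_eq_top.resolve_left hbn.ne_bot
  exact known_of_eq_top hna htop fun _ _ => hbn.known h44

/-- **Type beta, `dim_F Φ = 1`: `G` is known.** -/
theorem known_of_out [Finite G] {k F : Type*} [Field k] [Field F] [Algebra k F] {T : Quad k F}
    {S : Sylow 2 G} {V R Q Q' : Subgroup G} {v : k → F → k → G} {p p' : G → F}
    {Φ : Type*} [AddCommGroup Φ] [Module F Φ] {φ χ : G → Φ} {hm : Φ → Φ → F}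
    {W : Type*} [AddCommGroup W] [Module F W] {w : G → W} {g : W → W → F} {f₀ : W} {ι : Φ →ₗ[F] W}
    (h44 : St1144.{u}) (hB : Bender.{u}) (hs : IsSimpleGroup G) (hna : ¬ IsMulCommutative G)
    (hG : IsCharacteristicTwoType G)
    (I : GIn T S V R Q Q' v p p') (D : Fld T V R Q Q' v p φ χ) (Ex : Ext V R Q Q' p')
    (O : Out T V R Q Q' v p φ χ hm w g f₀ ι) (h1 : Module.finrank F Φ = 1)
    (hT : normalizer (R : Set G) ⊔ normalizer (V : Set G) = ⊤) : IsKnownSimple' G := by
  obtain ⟨A, n₀, w₀, l⟩ := exists_LSide O I D h1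
  obtain ⟨m₀, x⟩ := exists_XFields I D Ex O
  exact known_of_sides h44 hB hs hna hG l x I.S_R hT

end Cfsg.Agent.RankTwoClose.UFive.Known
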