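import Cfsg.Agent.Mrg.Omega.NOne.SU.OutBasic
import Cfsg.Agent.Mrg.Omega.NOne.SU.QuadFacts
import Cfsg.Agent.Mrg.Omega.NOne.SU.Defs
import Cfsg.Agent.Mrg.RankTwoClose.Braid
import Mathlib

section


/-!
# `U₅(q)`: the side `L` from THEOREM UNI, part 1: the stabiliser of a point

`NN = C_{Q'}(V)`, `UU = Q NN`.  `jm x r` is the element of the unipotent radical of the stabiliser of `F e₀`.

* `rho_UU` : the elements of `UU` act as `jm x r`, all of them occur (`exists_jm`);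
* `mem_UU` : an element of `N_G(R)` acting as `jm x r` is in `UU`;
* `norm_UU` : for `c ∈ N_G(R)`: `c` normalises `UU` iff `c` stabilises `F e₀`.
-/

set_option autoImplicit false
set_option linter.unusedSectionVars false

open Subgroup

namespace Cfsg.Agent.RankTwoClose.UFive.LSide

open Cfsg.Agent.Omega.NOne.SU
open Cfsg.Agent.RankTwoClose.UFour (cj)

variable {G : Type*} [Group G] {k F : Type*} [Field k] [Field F] [Algebra k F]

/-- `C_{Q'}(V)` -/
def NN (V Q' : Subgroup G) : Subgroup G := Q' ⊓ centralizer (V : Set G)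

/-- `Q C_{Q'}(V)` -/
def UU (V Q Q' : Subgroup G) : Subgroup G := Q ⊔ NN V Q'

theorem mem_NN {V Q' : Subgroup G} {n : G} : n ∈ NN V Q' ↔ n ∈ Q' ∧ n ∈ centralizer (V : Set G) := mem_inf

/-- the unipotent elements -/
def jm {Φ W : Type*} [AddCommGroup Φ] [Module F Φ] [AddCommGroup W] [Module F W]
    (g : W → W → F) (e₀ : W) (ι : Φ →ₗ[F] W) (x : Φ) (r : F) (m : W) : W :=
  m + g m e₀ • ι x + (g m (ι x) + r * g m e₀) • e₀

section

variable {T : Quad k F} {S : Sylow 2 G} {V R Q Q' : Subgroup G} {v : k → F → k → G} {p p' : G → F}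
    {Φ : Type*} [AddCommGroup Φ] [Module F Φ] {φ χ : G → Φ} {hm : Φ → Φ → F}
    {W : Type*} [AddCommGroup W] [Module F W] {w : G → W} {g : W → W → F} {f₀ : W}
    {ι : Φ →ₗ[F] W} (D : Out T V R Q Q' v p φ χ hm w g f₀ ι) (I : GIn T S V R Q Q' v p p')

/-! ### The form on `Φ` -/

section form
include D

theorem two_W [CharP k 2] (m : W) : m + m = 0 := by
  have _ := D
  have h := T.two_F (1 : F)
  have h1 : ((1 : F) + 1) • m = 0 := by rw [h, zero_smul]
  rwa [add_smul, one_smul] at h1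

theorem eq_of_add [CharP k 2] {m m' : W} (h : m + m' = 0) : m = m' := by
  have h1 := two_W D m'
  exact add_right_cancel (h.trans h1.symm)

theorem hm_sym (x y : Φ) : hm y x = T.sg (hm x y) := by
  rw [← D.g_ιι, ← D.g_ιι, D.g_sym]

theorem hm_add (x x' y : Φ) : hm (x + x') y = hm x y + hm x' y := by
  rw [← D.g_ιι, map_add, D.g_add, D.g_ιι, D.g_ιι]

theorem hm_smul (s : F) (x y : Φ) : hm (s • x) y = s * hm x y := by
  rw [← D.g_ιι, map_smul, D.g_smul, D.g_ιι]

theorem hm_add_right (x y y' : Φ) : hm x (y + y') = hm x y + hm x y' := by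
  rw [← D.g_ιι, map_add, D.g_add_right, D.g_ιι, D.g_ιι]

theorem hm_smul_right (s : F) (x y : Φ) : hm x (s • y) = T.sg s * hm x y := by
  rw [← D.g_ιι, map_smul, D.g_smul_right, D.g_ιι]

theorem hm_zero_left (y : Φ) : hm 0 y = 0 := by
  rw [← D.g_ιι, map_zero, D.g_zero_left]

theorem hm_zero_right (y : Φ) : hm y 0 = 0 := by
  rw [← D.g_ιι, map_zero, D.g_zero_right]

/-- there is `r` with `r + sg r = hm x x` -/
theorem exists_r [CharP k 2] (x : Φ) : ∃ r : F, r + T.sg r = hm x x := by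
  have := T.fink
  have h := hm_sym D x x
  obtain ⟨a, ha⟩ := T.fix _ h.symm
  obtain ⟨θ, hθ⟩ := T.exists_tr_one
  refine ⟨algebraMap k F a * θ, ?_⟩
  rw [map_mul, T.sg_alg, ← mul_add, ← T.tr_eq, hθ, map_one, mul_one, ha]

/-! ### `jm` -/

theorem jm_e (x : Φ) (r : F) : jm g (w (v 0 1 0)) ι x r (w (v 0 1 0)) = w (v 0 1 0) := by
  unfold jm
  rw [D.g_ee, D.g_eι]
  simp only [zero_smul, mul_zero, add_zero]

theorem jm_f (x : Φ) (r : F) : jm g (w (v 0 1 0)) ι x r f₀ = f₀ + ι x + r • w (v 0 1 0) := by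
  unfold jm
  rw [D.g_fe, D.g_fι, one_smul, mul_one, zero_add]

theorem jm_smul (x : Φ) (r s : F) (m : W) :
    jm g (w (v 0 1 0)) ι x r (s • m) = s • jm g (w (v 0 1 0)) ι x r m := by
  unfold jm
  rw [D.g_smul, D.g_smul, smul_add, smul_add, smul_smul, smul_smul]
  congr 2
  ring

theorem jm_add (x : Φ) (r : F) (m m' : W) :
    jm g (w (v 0 1 0)) ι x r (m + m') = jm g (w (v 0 1 0)) ι x r m + jm g (w (v 0 1 0)) ι x r m' := by
  unfold jm
  rw [D.g_add, D.g_add, add_smul]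
  have h1 : g m (ι x) + g m' (ι x) + r * (g m (w (v 0 1 0)) + g m' (w (v 0 1 0))) =
    (g m (ι x) + r * g m (w (v 0 1 0))) + (g m' (ι x) + r * g m' (w (v 0 1 0))) := by ring
  rw [h1, add_smul]
  abel

theorem jm_jm (x x' : Φ) (r r' : F) (m : W) :
    jm g (w (v 0 1 0)) ι x r (jm g (w (v 0 1 0)) ι x' r' m) =
      jm g (w (v 0 1 0)) ι (x + x') (r + r' + hm x' x) m := by
  have h1 : g (jm g (w (v 0 1 0)) ι x' r' m) (w (v 0 1 0)) = g m (w (v 0 1 0)) := by
    unfold jm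
    rw [D.g_add, D.g_add, D.g_smul, D.g_smul, D.g_ιe, D.g_ee, mul_zero, mul_zero, add_zero, add_zero]
  have h2 : g (jm g (w (v 0 1 0)) ι x' r' m) (ι x) = g m (ι x) + g m (w (v 0 1 0)) * hm x' x := by
    unfold jm
    rw [D.g_add, D.g_add, D.g_smul, D.g_smul, D.g_ιι, D.g_eι, mul_zero, add_zero]
  rw [jm, h1, h2]
  unfold jm
  rw [map_add, D.g_add_right, smul_add]
  have h3 : g m (ι x) + g m (ι x') + (r + r' + hm x' x) * g m (w (v 0 1 0)) =
    (g m (ι x') + r' * g m (w (v 0 1 0))) + (g m (ι x) + g m (w (v 0 1 0)) * hm x' x + r * g m (w (v 0 1 0))) := by ring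
  rw [h3, add_smul (g m (ι x') + r' * g m (w (v 0 1 0)))]
  abel

theorem jm_zero (m : W) : jm g (w (v 0 1 0)) ι 0 0 m = m := by
  unfold jm
  rw [map_zero, smul_zero, D.g_zero_right]
  simp only [zero_mul, zero_smul, add_zero]

theorem g_jm_e (x : Φ) (r : F) (m : W) :
    g (jm g (w (v 0 1 0)) ι x r m) (w (v 0 1 0)) = g m (w (v 0 1 0)) := by
  unfold jm
  rw [D.g_add, D.g_add, D.g_smul, D.g_smul, D.g_ιe, D.g_ee, mul_zero, mul_zero, add_zero, add_zero]

/-- `jm x r` is an isometry -/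
theorem g_jm [CharP k 2] {x : Φ} {r : F} (hr : r + T.sg r = hm x x) (m m' : W) :
    g (jm g (w (v 0 1 0)) ι x r m) (jm g (w (v 0 1 0)) ι x r m') = g m m' := by
  have e1 : ∀ u : W, g (jm g (w (v 0 1 0)) ι x r m) (g m' (w (v 0 1 0)) • u) =
      T.sg (g m' (w (v 0 1 0))) * g (jm g (w (v 0 1 0)) ι x r m) u := fun u => D.g_smul_right _ _ _
  have h1 : g (jm g (w (v 0 1 0)) ι x r m) (ι x) = g m (ι x) + g m (w (v 0 1 0)) * hm x x := by
    unfold jm
    rw [D.g_add, D.g_add, D.g_smul, D.g_smul, D.g_ιι, D.g_eι, mul_zero, add_zero]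
  have h2 : g (jm g (w (v 0 1 0)) ι x r m) m' = g m m' + g m (w (v 0 1 0)) * g (ι x) m' +
      (g m (ι x) + r * g m (w (v 0 1 0))) * g (w (v 0 1 0)) m' := by
    rw [jm, D.g_add, D.g_add, D.g_smul, D.g_smul]
  have h3 : g (jm g (w (v 0 1 0)) ι x r m) (jm g (w (v 0 1 0)) ι x r m') =
      g (jm g (w (v 0 1 0)) ι x r m) m' +
      T.sg (g m' (w (v 0 1 0))) * g (jm g (w (v 0 1 0)) ι x r m) (ι x) +
      T.sg (g m' (ι x) + r * g m' (w (v 0 1 0))) * g (jm g (w (v 0 1 0)) ι x r m) (w (v 0 1 0)) := by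
    conv_lhs => rw [show jm g (w (v 0 1 0)) ι x r m' = m' + g m' (w (v 0 1 0)) • ι x +
      (g m' (ι x) + r * g m' (w (v 0 1 0))) • w (v 0 1 0) from rfl]
    rw [D.g_add_right, D.g_add_right, D.g_smul_right, D.g_smul_right]
  rw [h3, h2, h1, g_jm_e D, D.g_sym m' (ι x), D.g_sym m' (w (v 0 1 0)), map_add, map_mul, ← hr]
  set a := g m (w (v 0 1 0))
  set b := g m (ι x)
  set c := T.sg (g m' (w (v 0 1 0)))
  set d := T.sg (g m' (ι x))
  have h4 := T.two_F (a * d)
  have h5 := T.two_F (b * c)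
  have h6 := T.two_F (r * a * c)
  have h7 := T.two_F (T.sg r * c * a)
  linear_combination h4 + h5 + h6 + h7

end form

/-! ### `UU` -/

section grp
include I

theorem NN_CV {n : G} (hn : n ∈ NN V Q') : n ∈ centralizer (V : Set G) := (mem_NN.1 hn).2

theorem CV_CR {c : G} (hc : c ∈ centralizer (V : Set G)) : c ∈ centralizer (R : Set G) := I.CV_le_CR hc

theorem CV_NR {c : G} (hc : c ∈ centralizer (V : Set G)) : c ∈ normalizer (R : Set G) :=
  I.CR_le_NR (I.CV_le_CR hc)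

theorem v_NN (b : F) (d : k) : v 0 b d ∈ NN V Q' :=
  mem_NN.2 ⟨I.E'_le b d, I.V_CV (I.v_mem 0 b d)⟩

theorem V_le_UU : V ≤ UU V Q Q' := by
  intro x hx
  obtain ⟨a, b, d, rfl⟩ := I.v_surj x hx
  have h : v a b d = v a 0 0 * v 0 b d := by rw [I.v_mul, add_zero, zero_add, zero_add]
  rw [h]
  exact mul_mem (mem_sup_left (I.R_Q (I.v_R a))) (mem_sup_right (v_NN I b d))

omit I in
theorem Q_le_UU : Q ≤ UU V Q Q' := le_sup_left

omit I in
theorem NN_le_UU : NN V Q' ≤ UU V Q Q' := le_sup_right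

/-- `UU = Q NN` -/
theorem mem_UU_iff {u : G} : u ∈ UU V Q Q' ↔ ∃ n ∈ NN V Q', ∃ y ∈ Q, u = n * y := by
  constructor
  · intro hu
    let K : Subgroup G :=
      { carrier := {u | ∃ n ∈ NN V Q', ∃ y ∈ Q, u = n * y}
        one_mem' := ⟨1, one_mem _, 1, one_mem _, (mul_one _).symm⟩
        mul_mem' := by
          rintro _ _ ⟨n, hn, y, hy, rfl⟩ ⟨n', hn', y', hy', rfl⟩
          refine ⟨n * n', mul_mem hn hn', (n'⁻¹ * y * n') * y', mul_mem ?_ hy', by group⟩
          exact I.nor_inv (CV_NR I (NN_CV I hn')) hy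
        inv_mem' := by
          rintro _ ⟨n, hn, y, hy, rfl⟩
          refine ⟨n⁻¹, inv_mem hn, n * y⁻¹ * n⁻¹, I.nor _ (CV_NR I (NN_CV I hn)) _ (inv_mem hy), by group⟩ }
    have hK : UU V Q Q' ≤ K := by
      refine sup_le ?_ ?_
      · intro y hy
        exact ⟨1, one_mem _, y, hy, (one_mul _).symm⟩
      · intro n hn
        exact ⟨n, hn, 1, one_mem _, (mul_one _).symm⟩
    exact hK hu
  · rintro ⟨n, hn, y, hy, rfl⟩
    exact mul_mem (mem_sup_right hn) (mem_sup_left hy)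

theorem UU_CR : UU V Q Q' ≤ centralizer (R : Set G) :=
  sup_le I.Q_CR (fun _ hn => CV_CR I (NN_CV I hn))

theorem UU_NR : UU V Q Q' ≤ normalizer (R : Set G) := (UU_CR I).trans I.CR_le_NR

/-- `c ∈ N(R) ∩ N(V)` normalises `V ∩ Q` -/
theorem conj_E {c : G} (hR : c ∈ normalizer (R : Set G)) (hV : c ∈ normalizer (V : Set G)) (a : k) (b : F) :
    ∃ a' b', c * v a b 0 * c⁻¹ = v a' b' 0 := by
  have h1 : c * v a b 0 * c⁻¹ ∈ V := (mem_normalizer_iff.1 hV _).1 (I.v_mem _ _ _)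
  have h2 : c * v a b 0 * c⁻¹ ∈ Q := I.nor c hR _ (I.E_le a b)
  obtain ⟨a', b', d', e⟩ := I.v_surj _ h1
  rw [← e] at h2 ⊢
  exact ⟨a', b', by rw [I.V_Q _ _ _ h2]⟩

end grp

section both
include D I

/-- `w` on conjugates of `V ∩ Q` under `N(R) ∩ N(V)` -/
theorem rho_e {c : G} (hR : c ∈ normalizer (R : Set G)) (hV : c ∈ normalizer (V : Set G)) (b : F) :
    ∃ b' : F, D.rho c (b • w (v 0 1 0)) = b' • w (v 0 1 0) := by
  obtain ⟨a', b', h⟩ := conj_E I hR hV 0 b
  refine ⟨b', ?_⟩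
  rw [← D.w_e, D.rho_w I hR (I.E_le _ _), h, D.w_v I]

theorem rho_NN {n : G} (hn : n ∈ NN V Q') : ∃ r : F, r + T.sg r = hm (χ n) (χ n) ∧
    ∀ m, D.rho n m = jm g (w (v 0 1 0)) ι (χ n) r m := by
  obtain ⟨h1, h2⟩ := mem_NN.1 hn
  obtain ⟨r, hr, h⟩ := D.χ_act n h1 h2
  refine ⟨r, hr, fun m => ?_⟩
  obtain ⟨y, hy, rfl⟩ := D.w_surj m
  rw [D.rho_w I (CV_NR I h2) hy, h y hy]
  rfl

theorem rho_UU {u : G} (hu : u ∈ UU V Q Q') : ∃ (x : Φ) (r : F), r + T.sg r = hm x x ∧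
    ∀ m, D.rho u m = jm g (w (v 0 1 0)) ι x r m := by
  obtain ⟨n, hn, y, hy, rfl⟩ := (mem_UU_iff I).1 hu
  obtain ⟨r, hr, h⟩ := rho_NN D I hn
  refine ⟨χ n, r, hr, fun m => ?_⟩
  rw [D.rho_mul I (CV_NR I (NN_CV I hn)) (I.Q_NR hy), D.rho_Q I hy, h]

/-- all `jm x r` occur -/
theorem exists_jm [CharP k 2] (Fd : Fld T V R Q Q' v p φ χ) {x : Φ} {r : F} (hr : r + T.sg r = hm x x) :
    ∃ n ∈ NN V Q', ∀ m, D.rho n m = jm g (w (v 0 1 0)) ι x r m := by
  obtain ⟨n, hn1, hn2, hx⟩ := Fd.χ_surj x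
  have hn : n ∈ NN V Q' := mem_NN.2 ⟨hn1, hn2⟩
  obtain ⟨r', hr', h⟩ := rho_NN D I hn
  rw [hx] at hr' h
  -- `r = r' + d`
  have h1 : T.sg (r + r') = r + r' := by
    rw [map_add]
    have h2 : r + T.sg r = r' + T.sg r' := by rw [hr, hr']
    have h3 := T.two_F (T.sg r)
    have h4 := T.two_F r'
    linear_combination (-1 : F) * h2 + h3 - h4
  obtain ⟨d, hd⟩ := T.fix _ h1
  have hd' : algebraMap k F d + r' = r := by
    rw [hd, add_assoc, T.two_F, add_zero]
  refine ⟨v 0 0 d * n, mul_mem (v_NN I 0 d) hn, fun m => ?_⟩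
  have e1 : D.rho (v 0 0 d * n) m = jm g (w (v 0 1 0)) ι 0 (algebraMap k F d) (jm g (w (v 0 1 0)) ι x r' m) := by
    rw [D.rho_mul I (CV_NR I (I.V_CV (I.v_mem 0 0 d))) (CV_NR I hn2), h, D.rho_tv I]
    conv_rhs => rw [jm]
    rw [map_zero, smul_zero, D.g_zero_right, add_zero, zero_add]
  rw [e1, jm_jm D, zero_add, hm_zero_right D, add_zero, hd']

/-- an element of `N(R)` which acts as `jm x r` is in `UU` -/
theorem mem_UU_of [CharP k 2] (Fd : Fld T V R Q Q' v p φ χ) {c : G} (hc : c ∈ normalizer (R : Set G)) {x : Φ}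
    {r : F} (hr : r + T.sg r = hm x x) (h : ∀ m, D.rho c m = jm g (w (v 0 1 0)) ι x r m) : c ∈ UU V Q Q' := by
  obtain ⟨n, hn, hn'⟩ := exists_jm D I Fd hr
  have hnR := CV_NR I (NN_CV I hn)
  have h1 : n⁻¹ * c ∈ Q := by
    apply D.mem_Q_of_rho I (mul_mem (inv_mem hnR) hc)
    intro m
    rw [D.rho_mul I (inv_mem hnR) hc, h, ← hn', D.rho_inv_left I hnR]
  exact (mem_UU_iff I).2 ⟨n, hn, _, h1, by group⟩

/-- `UU` modulo `Q` has exponent 4 -/
theorem pow_four [CharP k 2] {u : G} (hu : u ∈ UU V Q Q') : u ^ 4 ∈ Q := by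
  obtain ⟨x, r, hr, h⟩ := rho_UU D I hu
  have hN := UU_NR I hu
  apply D.mem_Q_of_rho I (pow_mem hN 4)
  intro m
  have h2 : ∀ m, D.rho (u ^ 2) m = jm g (w (v 0 1 0)) ι 0 (hm x x) m := by
    intro m
    have hx2 : x + x = 0 := by
      have h1 := T.two_F (1 : F)
      have h2 : ((1 : F) + 1) • x = 0 := by rw [h1, zero_smul]
      rwa [add_smul, one_smul] at h2
    rw [pow_two, D.rho_mul I hN hN, h, h, jm_jm D, hx2, T.two_F, zero_add]
  have h3 : u ^ 4 = u ^ 2 * u ^ 2 := by group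
  rw [h3, D.rho_mul I (pow_mem hN 2) (pow_mem hN 2), h2, h2, jm_jm D, add_zero, T.two_F, zero_add,
    hm_zero_right D, jm_zero D]

theorem UU_two [CharP k 2] : IsPGroup 2 (UU V Q Q') := by
  intro u
  have h1 := pow_four D I u.2
  obtain ⟨m, hm⟩ := I.Q_two ⟨_, h1⟩
  refine ⟨m + 2, ?_⟩
  have h2 : ((u : G) ^ 4) ^ 2 ^ m = 1 := congrArg (fun x : Q => (x : G)) hm
  apply Subtype.ext
  change (u : G) ^ 2 ^ (m + 2) = 1
  rw [← h2, ← pow_mul, pow_add, mul_comm]
  norm_num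

/-- **the elements of `N(R) ∩ N(V)` normalise `UU`** -/
theorem conj_UU [CharP k 2] {c : G} (hR : c ∈ normalizer (R : Set G)) (hV : c ∈ normalizer (V : Set G)) {u : G}
    (hu : u ∈ UU V Q Q') : c * u * c⁻¹ ∈ UU V Q Q' := by
  obtain ⟨n, hn, y, hy, rfl⟩ := (mem_UU_iff I).1 hu
  have e : c * (n * y) * c⁻¹ = (c * n * c⁻¹) * (c * y * c⁻¹) := by group
  rw [e]
  refine mul_mem ?_ (Q_le_UU (I.nor c hR y hy))
  obtain ⟨hn1, hn2⟩ := mem_NN.1 hn
  set c' := c * n * c⁻¹ with hc'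
  have hc'V : c' ∈ centralizer (V : Set G) := by
    rw [mem_centralizer_iff]
    intro x hx
    have h1 : c⁻¹ * x * c ∈ V := by
      have := (mem_normalizer_iff.1 (inv_mem hV) x).1 hx
      rwa [inv_inv] at this
    have h2 := mem_centralizer_iff.1 hn2 _ h1
    calc x * c' = c * ((c⁻¹ * x * c) * n) * c⁻¹ := by rw [hc']; group
      _ = c * (n * (c⁻¹ * x * c)) * c⁻¹ := by rw [h2]
      _ = c' * x := by rw [hc']; group
  have hc'N := CV_NR I hc'V
  obtain ⟨r, hr, hρ⟩ := rho_NN D I hn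
  suffices hrad : ∃ n ∈ Q', n ∈ centralizer (V : Set G) ∧ ∃ d, ∃ y ∈ Q, c' = n * v 0 0 d * y by
    obtain ⟨n', h1', h2', d, z, hz, he⟩ := hrad
    rw [he]
    exact mul_mem (mul_mem (NN_le_UU (mem_NN.2 ⟨h1', h2'⟩)) (V_le_UU I (I.v_mem _ _ _))) (Q_le_UU hz)
  refine D.rad c' (CV_CR I hc'V) ?_ ?_ ?_
  · intro b
    have := mem_centralizer_iff.1 hc'V _ (I.v_mem 0 b 0)
    have h1 : c' * v 0 b 0 * c'⁻¹ = v 0 b 0 := by rw [← this]; group
    rw [h1]
  · intro x hx hxe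
    -- `x` centralises `V`
    have hxV : x ∈ centralizer (V : Set G) := by
      rw [I.mem_CV hx, D.p_eq x hx]; exact hxe
    have hcx : c⁻¹ * x * c ∈ Q := I.nor_inv hR hx
    have hcxV : c⁻¹ * x * c ∈ centralizer (V : Set G) := by
      rw [mem_centralizer_iff]
      intro y hy
      have h1 : c * y * c⁻¹ ∈ V := (mem_normalizer_iff.1 hV y).1 hy
      have h2 := mem_centralizer_iff.1 hxV _ h1
      calc y * (c⁻¹ * x * c) = c⁻¹ * ((c * y * c⁻¹) * x) * c := by group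
        _ = c⁻¹ * (x * (c * y * c⁻¹)) * c := by rw [h2]
        _ = (c⁻¹ * x * c) * y := by group
    have h0 : g (w (c⁻¹ * x * c)) (w (v 0 1 0)) = 0 := by
      rw [← D.p_eq _ hcx]; exact (I.mem_CV hcx).1 hcxV
    have h1 : D.rho n (w (c⁻¹ * x * c)) = w (c⁻¹ * x * c) + (g (w (c⁻¹ * x * c)) (ι (χ n))) • w (v 0 1 0) := by
      rw [hρ, jm, h0, zero_smul, add_zero, mul_zero, add_zero]
    obtain ⟨b, hb⟩ := rho_e D I hR hV (g (w (c⁻¹ * x * c)) (ι (χ n)))
    refine ⟨b, ?_⟩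
    rw [← D.rho_w I hc'N hx, D.w_e, ← hb]
    have hcn : c * n * c⁻¹ = c * (n * c⁻¹) := by group
    have h5 : D.rho c⁻¹ (w x) = w (c⁻¹ * x * c) := by
      rw [D.rho_w I (inv_mem hR) hx, inv_inv]
    rw [hc', hcn, D.rho_mul I hR (mul_mem (CV_NR I hn2) (inv_mem hR)), D.rho_mul I (CV_NR I hn2) (inv_mem hR),
      h5, h1, D.rho_add I hR, ← h5, D.rho_inv_right I hR]
  · intro x hx
    have hcx : c' * x * c'⁻¹ ∈ Q := I.nor c' hc'N x hx
    rw [← D.p_eq _ hcx, ← D.p_eq x hx]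
    have h1 := I.act _ hcx 0 0 1
    have h2 := I.act _ hx 0 0 1
    have hv1 : c'⁻¹ * v 0 0 1 * c' = v 0 0 1 := by
      have := mem_centralizer_iff.1 hc'V _ (I.v_mem 0 0 1)
      rw [mul_assoc, this]; group
    have hv2 : c' * (x * v 0 0 1 * x⁻¹) * c'⁻¹ = x * v 0 0 1 * x⁻¹ := by
      have := mem_centralizer_iff.1 hc'V (x * v 0 0 1 * x⁻¹) (by rw [h2]; exact I.v_mem _ _ _)
      rw [← this]; group
    have h3 : c' * x * c'⁻¹ * v 0 0 1 * (c' * x * c'⁻¹)⁻¹ = x * v 0 0 1 * x⁻¹ := by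
      calc c' * x * c'⁻¹ * v 0 0 1 * (c' * x * c'⁻¹)⁻¹ = c' * (x * (c'⁻¹ * v 0 0 1 * c') * x⁻¹) * c'⁻¹ := by group
        _ = x * v 0 0 1 * x⁻¹ := by rw [hv1, hv2]
    rw [h1, h2] at h3
    have h4 := (I.v_ext h3).2.1
    simpa using h4

theorem norm_of_NV [CharP k 2] {c : G} (hR : c ∈ normalizer (R : Set G)) (hV : c ∈ normalizer (V : Set G)) :
    cj c (UU V Q Q') = UU V Q Q' := by
  apply le_antisymm
  · rintro _ ⟨u, hu, rfl⟩
    exact conj_UU D I hR hV hu
  · intro u hu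
    refine ⟨c⁻¹ * u * c, ?_, ?_⟩
    · have := conj_UU D I (inv_mem hR) (inv_mem hV) hu
      rwa [inv_inv] at this
    · change c * (c⁻¹ * u * c) * c⁻¹ = u
      group

/-- if `c` stabilises `F e₀`, then it normalises `UU` -/
theorem norm_UU [CharP k 2] {c : G} (hR : c ∈ normalizer (R : Set G))
    (h : ∃ s : F, D.rho c (w (v 0 1 0)) = s • w (v 0 1 0)) : cj c (UU V Q Q') = UU V Q Q' := by
  apply norm_of_NV D I hR
  apply D.stab c hR
  obtain ⟨s, hs⟩ := h
  exact ⟨s, by rw [← hs, D.rho_w I hR (I.E_le _ _)]⟩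

/-- the fixed points of `UU` -/
theorem fixed_UU [CharP k 2] (Fd : Fld T V R Q Q' v p φ χ) {m : W}
    (h : ∀ u ∈ UU V Q Q', D.rho u m = m) : ∃ s : F, m = s • w (v 0 1 0) := by
  have key : ∀ (x : Φ) (r : F), r + T.sg r = hm x x → jm g (w (v 0 1 0)) ι x r m = m := by
    intro x r hr
    obtain ⟨n, hn, hn'⟩ := exists_jm D I Fd hr
    rw [← hn']
    exact h n (NN_le_UU hn)
  have h1 : g m (w (v 0 1 0)) = 0 := by
    have h2 := key 0 1 (by rw [map_one, T.two_F, hm_zero_left D])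
    unfold jm at h2
    rw [map_zero, smul_zero, D.g_zero_right, add_zero, one_mul, zero_add] at h2
    have h3 : g m (w (v 0 1 0)) • w (v 0 1 0) = 0 := by
      have : m + g m (w (v 0 1 0)) • w (v 0 1 0) = m + 0 := by rw [h2, add_zero]
      exact add_left_cancel this
    rcases smul_eq_zero.1 h3 with h | h
    · exact h
    · exact absurd h D.e_ne
  have h2 : ∀ x : Φ, g m (ι x) = 0 := by
    intro x
    obtain ⟨r, hr⟩ := exists_r D x
    have h2 := key x r hr
    unfold jm at h2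
    rw [h1, zero_smul, add_zero, mul_zero, add_zero] at h2
    have h3 : g m (ι x) • w (v 0 1 0) = 0 := by
      have : m + g m (ι x) • w (v 0 1 0) = m + 0 := by rw [h2, add_zero]
      exact add_left_cancel this
    rcases smul_eq_zero.1 h3 with h | h
    · exact h
    · exact absurd h D.e_ne
  obtain ⟨x, hx⟩ := D.decomp m
  refine ⟨g m f₀, ?_⟩
  have h3 : x = 0 := by
    apply D.hm_nondeg
    intro u
    have h4 := h2 u
    rw [hx, D.g_add, D.g_add, D.g_smul, D.g_smul, D.g_eι, D.g_fι, D.g_ιι, mul_zero, mul_zero, zero_add,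
      add_zero] at h4
    exact h4
  rw [h1, h3, map_zero, zero_smul, add_zero, add_zero] at hx
  exact hx

/-- if `c` normalises `UU`, then it stabilises `F e₀` -/
theorem stab_of_norm [CharP k 2] (Fd : Fld T V R Q Q' v p φ χ) {c : G} (hR : c ∈ normalizer (R : Set G))
    (h : cj c (UU V Q Q') = UU V Q Q') : ∃ s : F, D.rho c (w (v 0 1 0)) = s • w (v 0 1 0) := by
  apply fixed_UU D I Fd
  intro u hu
  rw [← h] at hu
  obtain ⟨u', hu', rfl⟩ := hu
  change D.rho (c * u' * c⁻¹) (D.rho c (w (v 0 1 0))) = D.rho c (w (v 0 1 0))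
  have hu'R := UU_NR I hu'
  obtain ⟨x, r, hr, hj⟩ := rho_UU D I hu'
  rw [← D.rho_mul I (mul_mem (mul_mem hR hu'R) (inv_mem hR)) hR]
  have e : c * u' * c⁻¹ * c = c * u' := by group
  rw [e, D.rho_mul I hR hu'R, hj, jm_e D]

theorem cj_UU_iff [CharP k 2] (Fd : Fld T V R Q Q' v p φ χ) {c : G} (hR : c ∈ normalizer (R : Set G)) :
    cj c (UU V Q Q') = UU V Q Q' ↔ ∃ s : F, D.rho c (w (v 0 1 0)) = s • w (v 0 1 0) :=
  ⟨stab_of_norm D I Fd hR, norm_UU D I hR⟩

end both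

end

end Cfsg.Agent.RankTwoClose.UFive.LSide

end

section


/-!
# `U₅(q)`: the side `L` from THEOREM UNI, part 2: linear isometries and the group `L`

* `Lin` : the elements of `C_G(R)` which are `F`-linear isometries of `W`; `dt : Lin →* F` the determinant;
* `LL` : the group generated by all `N_G(R)`-conjugates of `UU`; `LL ≤ Lin`, `dt = 1` on `LL`.
-/

set_option autoImplicit false
set_option linter.unusedSectionVars false

open Subgroup

namespace Cfsg.Agent.RankTwoClose.UFive.LSide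

open Cfsg.Agent.Omega.NOne.SU
open Cfsg.Agent.RankTwoClose.UFour (cj)

variable {G : Type*} [Group G] {k F : Type*} [Field k] [Field F] [Algebra k F]

/-- the group generated by the `N_G(R)`-conjugates of `UU` -/
def LL (V R Q Q' : Subgroup G) : Subgroup G :=
  closure {x | ∃ c ∈ normalizer (R : Set G), ∃ u ∈ UU V Q Q', x = c * u * c⁻¹}

theorem conj_LL {V R Q Q' : Subgroup G} {c x : G} (hc : c ∈ normalizer (R : Set G)) (hx : x ∈ LL V R Q Q') :
    c * x * c⁻¹ ∈ LL V R Q Q' := by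
  have h1 : LL V R Q Q' ≤ (LL V R Q Q').comap (MulAut.conj c).toMonoidHom := by
    rw [LL, closure_le]
    rintro _ ⟨d, hd, u, hu, rfl⟩
    change c * (d * u * d⁻¹) * c⁻¹ ∈ LL V R Q Q'
    exact subset_closure ⟨c * d, mul_mem hc hd, u, hu, by group⟩
  exact h1 hx

theorem NR_le_NLL (V R Q Q' : Subgroup G) : normalizer (R : Set G) ≤ normalizer (LL V R Q Q' : Set G) := by
  intro c hc
  rw [mem_normalizer_iff]
  intro x
  refine ⟨fun h => conj_LL hc h, fun h => ?_⟩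
  have := conj_LL (inv_mem hc) h
  simpa [mul_assoc] using this

theorem conj_UU_le {V R Q Q' : Subgroup G} {c : G} (hc : c ∈ normalizer (R : Set G)) :
    cj c (UU V Q Q') ≤ LL V R Q Q' := by
  rintro _ ⟨u, hu, rfl⟩
  exact subset_closure ⟨c, hc, u, hu, rfl⟩

theorem UU_le_LL (V R Q Q' : Subgroup G) : UU V Q Q' ≤ LL V R Q Q' := by
  intro u hu
  exact subset_closure ⟨1, one_mem _, u, hu, by group⟩

section

variable {T : Quad k F} {S : Sylow 2 G} {V R Q Q' : Subgroup G} {v : k → F → k → G} {p p' : G → F}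
    {Φ : Type*} [AddCommGroup Φ] [Module F Φ] {φ χ : G → Φ} {hm : Φ → Φ → F}
    {W : Type*} [AddCommGroup W] [Module F W] {w : G → W} {g : W → W → F} {f₀ : W}
    {ι : Φ →ₗ[F] W} (D : Out T V R Q Q' v p φ χ hm w g f₀ ι) (I : GIn T S V R Q Q' v p p')

/-- the `F`-linear isometries in `C_G(R)` -/
def Lin (D : Out T V R Q Q' v p φ χ hm w g f₀ ι) (I : GIn T S V R Q Q' v p p') : Subgroup G where
  carrier := {c | c ∈ centralizer (R : Set G) ∧ (∀ (s : F) m, D.rho c (s • m) = s • D.rho c m) ∧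
    ∀ m m', g (D.rho c m) (D.rho c m') = g m m'}
  one_mem' := by
    refine ⟨one_mem _, fun s m => ?_, fun m m' => ?_⟩
    · rw [D.rho_one I, D.rho_one I]
    · rw [D.rho_one I, D.rho_one I]
  mul_mem' := by
    rintro a b ⟨ha, ha1, ha2⟩ ⟨hb, hb1, hb2⟩
    have haN := I.CR_NR ha
    have hbN := I.CR_NR hb
    refine ⟨mul_mem ha hb, fun s m => ?_, fun m m' => ?_⟩
    · rw [D.rho_mul I haN hbN, D.rho_mul I haN hbN, hb1, ha1]
    · rw [D.rho_mul I haN hbN, D.rho_mul I haN hbN, ha2, hb2]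
  inv_mem' := by
    rintro a ⟨ha, ha1, ha2⟩
    have haN := I.CR_NR ha
    refine ⟨inv_mem ha, fun s m => ?_, fun m m' => ?_⟩
    · obtain ⟨m, rfl⟩ := D.rho_surj I haN m
      rw [← ha1, D.rho_inv_left I haN, D.rho_inv_left I haN]
    · obtain ⟨m, rfl⟩ := D.rho_surj I haN m
      obtain ⟨m', rfl⟩ := D.rho_surj I haN m'
      rw [D.rho_inv_left I haN, D.rho_inv_left I haN, ha2]

theorem mem_Lin {c : G} : c ∈ Lin D I ↔ c ∈ centralizer (R : Set G) ∧
    (∀ (s : F) m, D.rho c (s • m) = s • D.rho c m) ∧ ∀ m m', g (D.rho c m) (D.rho c m') = g m m' := Iff.rfl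

theorem Lin_CR : Lin D I ≤ centralizer (R : Set G) := fun _ h => h.1

theorem Lin_NR : Lin D I ≤ normalizer (R : Set G) := fun _ h => I.CR_NR h.1

theorem rho_smul {c : G} (hc : c ∈ Lin D I) (s : F) (m : W) : D.rho c (s • m) = s • D.rho c m := hc.2.1 s m

theorem g_rho {c : G} (hc : c ∈ Lin D I) (m m' : W) : g (D.rho c m) (D.rho c m') = g m m' := hc.2.2 m m'

theorem UU_le_Lin [CharP k 2] : UU V Q Q' ≤ Lin D I := by
  intro u hu
  obtain ⟨x, r, hr, h⟩ := rho_UU D I hu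
  refine ⟨UU_CR I hu, fun s m => ?_, fun m m' => ?_⟩
  · rw [h, h, jm_smul D]
  · rw [h, h, g_jm D hr]

theorem exists_tran {m : W} (hm0 : m ≠ 0) (hmm : g m m = 0) :
    ∃ c ∈ Lin D I, ∃ s : F, s ≠ 0 ∧ D.rho c (w (v 0 1 0)) = s • m := by
  obtain ⟨c, hc, h1, h2, s, hs⟩ := D.tran m hm0 hmm
  have hcN := I.CR_NR hc
  refine ⟨c, ⟨hc, fun s m => ?_, fun m m' => ?_⟩, s, ?_, ?_⟩
  · obtain ⟨x, hx, rfl⟩ := D.w_surj m
    obtain ⟨y, hy, e⟩ := D.w_surj (s • w x)
    rw [D.rho_w I hcN hx, ← e, D.rho_w I hcN hy]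
    exact h1 s x hx y hy e
  · obtain ⟨x, hx, rfl⟩ := D.w_surj m
    obtain ⟨y, hy, rfl⟩ := D.w_surj m'
    rw [D.rho_w I hcN hx, D.rho_w I hcN hy]
    exact h2 x hx y hy
  · rintro rfl
    rw [zero_smul, ← D.rho_w I hcN (I.E_le 0 1)] at hs
    apply D.e_ne
    rw [← D.rho_inv_left I hcN (w (v 0 1 0)), hs, D.rho_zero I (inv_mem hcN)]
  · rw [D.rho_w I hcN (I.E_le _ _), hs]

/-- every element of `N(R)` moves `F e₀` like an element of `Lin` -/
theorem exists_Lin {c : G} (hc : c ∈ normalizer (R : Set G)) :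
    ∃ l ∈ Lin D I, ∃ s : F, s ≠ 0 ∧ D.rho (l⁻¹ * c) (w (v 0 1 0)) = s • w (v 0 1 0) := by
  obtain ⟨m, hm0, hmm, h⟩ := D.pt c hc
  obtain ⟨s, hs⟩ := h 1
  rw [← D.rho_w I hc (I.E_le _ _)] at hs
  have hs0 : s ≠ 0 := by
    rintro rfl
    rw [zero_smul] at hs
    apply D.e_ne
    rw [← D.rho_inv_left I hc (w (v 0 1 0)), hs, D.rho_zero I (inv_mem hc)]
  obtain ⟨l, hl, t, ht0, ht⟩ := exists_tran D I hm0 hmm
  have hlN := Lin_NR D I hl
  refine ⟨l, hl, s * t⁻¹, mul_ne_zero hs0 (inv_ne_zero ht0), ?_⟩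
  rw [D.rho_mul I (inv_mem hlN) hc, hs]
  have h1 : s • m = (s * t⁻¹) • (t • m) := by rw [smul_smul, inv_mul_cancel_right₀ ht0]
  rw [h1, rho_smul D I (inv_mem hl), ← ht, D.rho_inv_left I hlN]

theorem LL_le_Lin [CharP k 2] : LL V R Q Q' ≤ Lin D I := by
  rw [LL, closure_le]
  rintro _ ⟨c, hc, u, hu, rfl⟩
  obtain ⟨l, hl, s, -, hs⟩ := exists_Lin D I hc
  have hlN := Lin_NR D I hl
  have h1 := norm_UU D I (mul_mem (inv_mem hlN) hc) ⟨s, hs⟩
  have h2 : (l⁻¹ * c) * u * (l⁻¹ * c)⁻¹ ∈ UU V Q Q' := by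
    rw [← h1]
    exact ⟨u, hu, rfl⟩
  have h3 : c * u * c⁻¹ = l * ((l⁻¹ * c) * u * (l⁻¹ * c)⁻¹) * l⁻¹ := by group
  change c * u * c⁻¹ ∈ Lin D I
  rw [h3]
  exact mul_mem (mul_mem hl (UU_le_Lin D I h2)) (inv_mem hl)

include D I in
theorem LL_CR [CharP k 2] : LL V R Q Q' ≤ centralizer (R : Set G) := (LL_le_Lin D I).trans (Lin_CR D I)

include D I in
theorem LL_NR [CharP k 2] : LL V R Q Q' ≤ normalizer (R : Set G) := (LL_CR D I).trans I.CR_NR

/-! ### The determinant -/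

/-- the linear action -/
noncomputable def lhom (D : Out T V R Q Q' v p φ χ hm w g f₀ ι) (I : GIn T S V R Q Q' v p p') :
    Lin D I →* Module.End F W where
  toFun c :=
    { toFun := D.rho (c : G)
      map_add' := D.rho_add I (Lin_NR D I c.2)
      map_smul' := fun s m => rho_smul D I c.2 s m }
  map_one' := by
    ext m
    exact D.rho_one I m
  map_mul' := by
    intro a b
    ext m
    exact D.rho_mul I (Lin_NR D I a.2) (Lin_NR D I b.2) m

theorem lhom_apply (c : Lin D I) (m : W) : lhom D I c m = D.rho (c : G) m := rfl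

/-- the determinant -/
noncomputable def dt (D : Out T V R Q Q' v p φ χ hm w g f₀ ι) (I : GIn T S V R Q Q' v p p') : Lin D I →* F :=
  (LinearMap.det : (W →ₗ[F] W) →* F).comp (lhom D I)

theorem eq_one_of_pow [CharP F 2] {x : F} {m : ℕ} (h : x ^ 2 ^ m = 1) : x = 1 := by
  have : Fact (Nat.Prime 2) := ⟨Nat.prime_two⟩
  have h1 : (x - 1) ^ 2 ^ m = 0 := by
    rw [sub_pow_char_pow x 1 m, h, one_pow, sub_self]
  exact sub_eq_zero.1 ((pow_eq_zero_iff (by positivity)).1 h1)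

/-- `dt = 1` on the elements of `LL` -/
theorem dt_LL [CharP k 2] {c : G} (hc : c ∈ LL V R Q Q') : dt D I ⟨c, LL_le_Lin D I hc⟩ = 1 := by
  have hF : CharP F 2 := Quad.charF k F
  have h1 : LL V R Q Q' ≤ (dt D I).ker.map (Lin D I).subtype := by
    rw [LL, closure_le]
    rintro _ ⟨c, hc, u, hu, rfl⟩
    have hm : c * u * c⁻¹ ∈ Lin D I := LL_le_Lin D I (subset_closure ⟨c, hc, u, hu, rfl⟩)
    refine ⟨⟨c * u * c⁻¹, hm⟩, ?_, rfl⟩
    change dt D I ⟨c * u * c⁻¹, hm⟩ = 1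
    obtain ⟨n, hn⟩ := UU_two D I ⟨u, hu⟩
    have hn' : u ^ 2 ^ n = 1 := congrArg (fun x : UU V Q Q' => (x : G)) hn
    apply eq_one_of_pow (m := n)
    rw [← map_pow]
    have h2 : (⟨c * u * c⁻¹, hm⟩ : Lin D I) ^ 2 ^ n = 1 := by
      apply Subtype.ext
      change (c * u * c⁻¹) ^ 2 ^ n = 1
      rw [conj_pow, hn', mul_one, mul_inv_cancel]
    rw [h2, map_one]
  obtain ⟨⟨c', hc'⟩, h2, h3⟩ := h1 hc
  change c' = c at h3
  subst h3
  exact h2

/-! ### Dimension one -/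

variable {x₀ : Φ} (hx : ∀ x : Φ, ∃ s : F, x = s • x₀) (hne : x₀ ≠ 0)

include D hx hne in
theorem exists_basis : ∃ b : Module.Basis (Fin 3) F W, b 0 = w (v 0 1 0) ∧ b 1 = ι x₀ ∧ b 2 = f₀ := by
  have hli : LinearIndependent F ![w (v 0 1 0), ι x₀, f₀] := by
    rw [Fintype.linearIndependent_iff]
    intro c hc
    rw [Fin.sum_univ_three] at hc
    simp only [Matrix.cons_val_zero, Matrix.cons_val_one, Matrix.cons_val_two, Matrix.head_cons,
      Matrix.tail_cons] at hc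
    have h0 : c 0 = 0 := by
      have h1 := congrArg (fun m => g m f₀) hc
      simp only [D.g_add, D.g_smul, D.g_ef, D.g_ιf, D.g_ff, D.g_zero_left] at h1
      linear_combination h1
    have h2 : c 2 = 0 := by
      have h1 := congrArg (fun m => g m (w (v 0 1 0))) hc
      simp only [D.g_add, D.g_smul, D.g_ee, D.g_ιe, D.g_fe, D.g_zero_left] at h1
      linear_combination h1
    have h1 : c 1 = 0 := by
      rw [h0, h2, zero_smul, zero_smul, zero_add, add_zero] at hc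
      rcases smul_eq_zero.1 hc with h | h
      · exact h
      · exact absurd (D.ι_inj h) hne
    intro i
    fin_cases i
    · exact h0
    · exact h1
    · exact h2
  have hsp : ⊤ ≤ Submodule.span F (Set.range ![w (v 0 1 0), ι x₀, f₀]) := by
    rintro m -
    obtain ⟨a, x, b, rfl⟩ := D.span m
    obtain ⟨s, rfl⟩ := hx x
    rw [map_smul]
    refine Submodule.add_mem _ (Submodule.add_mem _ ?_ ?_) ?_
    · exact Submodule.smul_mem _ _ (Submodule.subset_span ⟨0, rfl⟩)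
    · exact Submodule.smul_mem _ _ (Submodule.subset_span ⟨1, rfl⟩)
    · exact Submodule.smul_mem _ _ (Submodule.subset_span ⟨2, rfl⟩)
  refine ⟨Module.Basis.mk hli hsp, ?_, ?_, ?_⟩
  · rw [Module.Basis.mk_apply]; rfl
  · rw [Module.Basis.mk_apply]; rfl
  · rw [Module.Basis.mk_apply]; rfl

include hx hne in
/-- the determinant of a diagonal element -/
theorem dt_diag {c : G} (hc : c ∈ Lin D I) {a b d : F} (ha : D.rho c (w (v 0 1 0)) = a • w (v 0 1 0))
    (hb : D.rho c (ι x₀) = b • ι x₀) (hd : D.rho c f₀ = d • f₀) : dt D I ⟨c, hc⟩ = a * b * d := by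
  classical
  obtain ⟨B, h0, h1, h2⟩ := exists_basis D hx hne
  have hM : LinearMap.toMatrix B B (lhom D I ⟨c, hc⟩) = Matrix.diagonal ![a, b, d] := by
    ext i j
    rw [LinearMap.toMatrix_apply]
    have h3 : lhom D I ⟨c, hc⟩ (B j) = (![a, b, d] j) • B j := by
      fin_cases j
      · change D.rho c (B 0) = a • B 0
        rw [h0, ha]
      · change D.rho c (B 1) = b • B 1
        rw [h1, hb]
      · change D.rho c (B 2) = d • B 2
        rw [h2, hd]
    rw [h3, map_smul, Module.Basis.repr_self, Finsupp.smul_apply, Finsupp.single_apply, Matrix.diagonal_apply,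
      smul_eq_mul]
    by_cases hij : i = j
    · subst hij; simp
    · rw [if_neg hij, if_neg (fun h => hij h.symm), mul_zero]
  change LinearMap.det (lhom D I ⟨c, hc⟩) = a * b * d
  rw [← LinearMap.det_toMatrix B, hM, Matrix.det_diagonal, Fin.prod_univ_three]
  rfl

end

end Cfsg.Agent.RankTwoClose.UFive.LSide

end

section


/-!
# `U₅(q)`: the side `L` from THEOREM UNI, part 3: `PanOf.Abs`

* `point` : the isotropic vectors; `Sw n₀` : `n₀ ∈ L` swaps `e₀` and `f₀` (`exists_sw`);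
* `move` : for `c ∈ N(R)`: `UU^c` is `UU` or `UU^(u n₀)`;
* `exists_tor` : the torus `diag(c, sg c / c, (sg c)⁻¹)`;
* `abs` : `PanOf.Abs L UU Q n₀`.
-/

set_option autoImplicit false
set_option linter.unusedSectionVars false

open Subgroup

namespace Cfsg.Agent.RankTwoClose.UFive.LSide

open Cfsg.Agent.Omega.NOne.SU
open Cfsg.Agent.RankTwoClose.UFour (cj cj_mul cj_inv_cj cj_cj_inv cj_one)

variable {G : Type*} [Group G] {k F : Type*} [Field k] [Field F] [Algebra k F]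

section

variable {T : Quad k F} {S : Sylow 2 G} {V R Q Q' : Subgroup G} {v : k → F → k → G} {p p' : G → F}
    {Φ : Type*} [AddCommGroup Φ] [Module F Φ] {φ χ : G → Φ} {hm : Φ → Φ → F}
    {W : Type*} [AddCommGroup W] [Module F W] {w : G → W} {g : W → W → F} {f₀ : W}
    {ι : Φ →ₗ[F] W} (D : Out T V R Q Q' v p φ χ hm w g f₀ ι) (I : GIn T S V R Q Q' v p p')
    {x₀ : Φ} (hx : ∀ x : Φ, ∃ s : F, x = s • x₀) (hne : x₀ ≠ 0)

include D hx in
theorem aniso {x : Φ} (h : hm x x = 0) : x = 0 := by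
  by_contra hx0
  obtain ⟨s, rfl⟩ := hx x
  have hs : s ≠ 0 := by
    rintro rfl
    exact hx0 (zero_smul _ _)
  rw [hm_smul D, hm_smul_right D] at h
  have h1 : hm x₀ x₀ = 0 := by
    rcases mul_eq_zero.1 h with h | h
    · exact absurd h hs
    rcases mul_eq_zero.1 h with h | h
    · exact absurd h (T.sg_ne' hs)
    · exact h
  apply hx0
  apply D.hm_nondeg
  intro u
  obtain ⟨t, rfl⟩ := hx u
  rw [hm_smul D, hm_smul_right D, h1, mul_zero, mul_zero]

include D hx hne in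
/-- the norm form is universal -/
theorem exists_hm [CharP k 2] (a : k) : ∃ x : Φ, hm x x = algebraMap k F a := by
  have hk := T.fink
  obtain ⟨κ, hκ⟩ := T.fix _ (hm_sym D x₀ x₀).symm
  have hκ0 : κ ≠ 0 := by
    rintro rfl
    rw [map_zero] at hκ
    exact hne (aniso D hx hκ.symm)
  have hsq : ∃ b : k, b * b = a / κ := by
    have hinj : Function.Injective (fun b : k => b * b) := by
      intro b c hbc
      have h1 : (b + c) * (b + c) = 0 := by
        have h2 : b * b = c * c := hbc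
        have h3 : (b + c) * (b + c) = b * b + c * c + (b * c + b * c) := by ring
        rw [h3, h2, CharTwo.add_self_eq_zero, CharTwo.add_self_eq_zero, add_zero]
      exact CharTwo.add_eq_zero.1 (mul_self_eq_zero.1 h1)
    exact Finite.surjective_of_injective hinj (a / κ)
  obtain ⟨b, hb⟩ := hsq
  refine ⟨algebraMap k F b • x₀, ?_⟩
  rw [hm_smul D, hm_smul_right D, T.sg_alg, ← hκ, ← map_mul, ← map_mul, ← mul_assoc, hb,
    div_mul_cancel₀ _ hκ0]

include D hx in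
/-- **the isotropic vectors** -/
theorem point [CharP k 2] {m : W} (hm0 : m ≠ 0) (hmm : g m m = 0) :
    (∃ s : F, s ≠ 0 ∧ m = s • w (v 0 1 0)) ∨ ∃ (x : Φ) (r b : F), b ≠ 0 ∧ r + T.sg r = hm x x ∧
      g m (w (v 0 1 0)) = b ∧ m = b • (f₀ + ι x + r • w (v 0 1 0)) := by
  obtain ⟨x', hd⟩ := D.decomp m
  set a := g m f₀ with ha
  set b := g m (w (v 0 1 0)) with hb
  have h1 : g m m = a * T.sg b + hm x' x' + b * T.sg a := by
    have h3 : g (w (v 0 1 0)) m = T.sg b := D.g_sym _ _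
    have h4 : g f₀ m = T.sg a := D.g_sym _ _
    have h5 : g (ι x') m = hm x' x' := by
      rw [D.g_sym m (ι x')]
      have : g m (ι x') = hm x' x' := by
        rw [hd, D.g_add, D.g_add, D.g_smul, D.g_smul, D.g_eι, D.g_fι, D.g_ιι]; ring
      rw [this, ← hm_sym D]
    conv_lhs => rw [hd]
    rw [D.g_add, D.g_add, D.g_smul, D.g_smul]
    rw [← hd, h3, h4, h5]
  rw [hmm] at h1
  by_cases hb0 : b = 0
  · left
    rw [hb0, map_zero, mul_zero, zero_mul, zero_add, add_zero] at h1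
    have hx' := aniso D hx h1.symm
    rw [hb0, hx', map_zero, zero_smul, add_zero, add_zero] at hd
    refine ⟨a, ?_, hd⟩
    intro ha0
    rw [ha0, zero_smul] at hd
    exact hm0 hd
  · right
    have hsb : T.sg b ≠ 0 := T.sg_ne' hb0
    refine ⟨b⁻¹ • x', b⁻¹ * a, b, hb0, ?_, rfl, ?_⟩
    · rw [map_mul, map_inv₀, hm_smul D, hm_smul_right D, map_inv₀]
      have h2 : hm x' x' = a * T.sg b + b * T.sg a := by
        have h3 := T.two_F (a * T.sg b + b * T.sg a)
        linear_combination -h3 - h1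
      rw [h2]
      field_simp
    · rw [smul_add, smul_add, smul_smul, mul_inv_cancel_left₀ hb0, map_smul, smul_smul, mul_inv_cancel₀ hb0,
        one_smul]
      conv_lhs => rw [hd]
      abel

/-! ### The swap -/

/-- conjugates of the transvections -/
theorem rho_tv_conj [CharP k 2] {c : G} (hc : c ∈ Lin D I) (d : k) (m : W) :
    D.rho (c * v 0 0 d * c⁻¹) m =
      m + (algebraMap k F d * g m (D.rho c (w (v 0 1 0)))) • D.rho c (w (v 0 1 0)) := by
  have hcN := Lin_NR D I hc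
  have hv := I.CR_NR (I.V_CR (I.v_mem 0 0 d))
  rw [D.rho_mul I (mul_mem hcN hv) (inv_mem hcN), D.rho_mul I hcN hv, D.rho_tv I, D.rho_add I hcN,
    D.rho_inv_right I hcN, rho_smul D I hc]
  congr 3
  rw [← g_rho D I hc, D.rho_inv_right I hcN]

/-- `n₀ ∈ L` swaps `e₀` and `f₀` -/
structure Sw (D : Out T V R Q Q' v p φ χ hm w g f₀ ι) (n₀ : G) : Prop where
  mem : n₀ ∈ LL V R Q Q'
  e : D.rho n₀ (w (v 0 1 0)) = f₀
  f : D.rho n₀ f₀ = w (v 0 1 0)
  i : ∀ x, D.rho n₀ (ι x) = ι x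

include I in
/-- the swap exists -/
theorem exists_sw [CharP k 2] : ∃ n₀, Sw D n₀ := by
  obtain ⟨c, hc, s, hs0, hs⟩ := exists_tran D I D.f_ne D.g_ff
  have hcN := Lin_NR D I hc
  set d : k := (T.nm s)⁻¹ with hd
  have hnm := T.nm_ne hs0
  set y := c * v 0 0 d * c⁻¹ with hy
  have hyL : y ∈ LL V R Q Q' := subset_closure ⟨c, hcN, _, V_le_UU I (I.v_mem 0 0 d), rfl⟩
  have hvL : v 0 0 1 ∈ LL V R Q Q' := UU_le_LL V R Q Q' (V_le_UU I (I.v_mem 0 0 1))
  have hyN : y ∈ normalizer (R : Set G) := LL_NR D I hyL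
  have hvN : v 0 0 1 ∈ normalizer (R : Set G) := LL_NR D I hvL
  have ry : ∀ m, D.rho y m = m + g m f₀ • f₀ := by
    intro m
    rw [hy, rho_tv_conj D I hc, hs, D.g_smul_right, smul_smul]
    congr 2
    have h1 : algebraMap k F d * (s * T.sg s) = 1 := by
      rw [← T.nm_eq, ← map_mul, hd, inv_mul_cancel₀ hnm, map_one]
    linear_combination g m f₀ * h1
  have rv : ∀ m, D.rho (v 0 0 1) m = m + g m (w (v 0 1 0)) • w (v 0 1 0) := by
    intro m
    rw [D.rho_tv I, map_one, one_mul]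
  have h : ∀ m, D.rho (v 0 0 1 * y * v 0 0 1) m = D.rho (v 0 0 1) (D.rho y (D.rho (v 0 0 1) m)) := by
    intro m
    rw [D.rho_mul I (mul_mem hvN hyN) hvN, D.rho_mul I hvN hyN]
  have r1 : D.rho (v 0 0 1) (w (v 0 1 0)) = w (v 0 1 0) := by rw [rv, D.g_ee, zero_smul, add_zero]
  have r2 : D.rho (v 0 0 1) f₀ = f₀ + w (v 0 1 0) := by rw [rv, D.g_fe, one_smul]
  have r3 : D.rho y (w (v 0 1 0)) = w (v 0 1 0) + f₀ := by rw [ry, D.g_ef, one_smul]
  have r4 : D.rho y (f₀ + w (v 0 1 0)) = w (v 0 1 0) := by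
    rw [ry, D.g_add, D.g_ff, D.g_ef, zero_add, one_smul, add_comm f₀, add_assoc, two_W D, add_zero]
  have r5 : D.rho (v 0 0 1) (w (v 0 1 0) + f₀) = f₀ := by
    rw [rv, D.g_add, D.g_ee, D.g_fe, zero_add, one_smul, add_comm (w (v 0 1 0)) f₀, add_assoc, two_W D,
      add_zero]
  refine ⟨v 0 0 1 * y * v 0 0 1, mul_mem (mul_mem hvL hyL) hvL, ?_, ?_, ?_⟩
  · rw [h, r1, r3, r5]
  · rw [h, r2, r4, r1]
  · intro x
    have r6 : D.rho (v 0 0 1) (ι x) = ι x := by rw [rv, D.g_ιe, zero_smul, add_zero]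
    have r7 : D.rho y (ι x) = ι x := by rw [ry, D.g_ιf, zero_smul, add_zero]
    rw [h, r6, r7, r6]

variable {n₀ : G} (N : Sw D n₀)

include N I in
theorem sw_NR [CharP k 2] : n₀ ∈ normalizer (R : Set G) := LL_NR D I N.mem

include N I in
theorem sw_inv [CharP k 2] (m : W) : D.rho n₀⁻¹ m = D.rho n₀ m := by
  have hN := sw_NR D I N
  have hL : n₀ ∈ Lin D I := LL_le_Lin D I N.mem
  have h2 : ∀ m, D.rho n₀ (D.rho n₀ m) = m := by
    intro m
    obtain ⟨a, x, b, rfl⟩ := D.span m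
    simp only [D.rho_add I hN, rho_smul D I hL, N.e, N.f, N.i]
  rw [← h2 (D.rho n₀⁻¹ m), D.rho_inv_right I hN]

include N I in
/-- the transvections with centre `f₀` -/
theorem rho_tv_sw [CharP k 2] (d : k) (m : W) :
    D.rho (n₀ * v 0 0 d * n₀⁻¹) m = m + (algebraMap k F d * g m f₀) • f₀ := by
  rw [rho_tv_conj D I (LL_le_Lin D I N.mem), N.e]

include I hx N in
/-- **the conjugates of `UU`** -/
theorem move [CharP k 2] (Fd : Fld T V R Q Q' v p φ χ) {c : G} (hc : c ∈ normalizer (R : Set G)) :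
    cj c (UU V Q Q') = UU V Q Q' ∨ ∃ u ∈ UU V Q Q', cj c (UU V Q Q') = cj (u * n₀) (UU V Q Q') := by
  obtain ⟨m, hm0, hmm, h⟩ := D.pt c hc
  obtain ⟨s, hs⟩ := h 1
  rw [← D.rho_w I hc (I.E_le _ _)] at hs
  have hm' : D.rho c (w (v 0 1 0)) ≠ 0 := by
    intro h0
    apply D.e_ne
    rw [← D.rho_inv_left I hc (w (v 0 1 0)), h0, D.rho_zero I (inv_mem hc)]
  have hmm' : g (D.rho c (w (v 0 1 0))) (D.rho c (w (v 0 1 0))) = 0 := by
    rw [hs, D.g_smul, D.g_smul_right, hmm, mul_zero, mul_zero]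
  rcases point D hx hm' hmm' with ⟨t, -, ht⟩ | ⟨x, r, b, -, hr, -, ht⟩
  · left
    exact norm_UU D I hc ⟨t, ht⟩
  · right
    obtain ⟨u, hu, hju⟩ := exists_jm D I Fd hr
    have huU : u ∈ UU V Q Q' := NN_le_UU hu
    have huN := UU_NR I huU
    have hnN := sw_NR D I N
    refine ⟨u, huU, ?_⟩
    have h1 : D.rho (u * n₀) (w (v 0 1 0)) = f₀ + ι x + r • w (v 0 1 0) := by
      rw [D.rho_mul I huN hnN, N.e, hju, jm_f D]
    have hl : u * n₀ ∈ Lin D I := mul_mem (UU_le_Lin D I huU) (LL_le_Lin D I N.mem)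
    have hlN := Lin_NR D I hl
    have h2 : D.rho ((u * n₀)⁻¹ * c) (w (v 0 1 0)) = b • w (v 0 1 0) := by
      rw [D.rho_mul I (inv_mem hlN) hc, ht, ← h1, rho_smul D I (inv_mem hl), D.rho_inv_left I hlN]
    have h3 := norm_UU D I (mul_mem (inv_mem hlN) hc) ⟨b, h2⟩
    have h4 := congrArg (cj (u * n₀)) h3
    rwa [← cj_mul, mul_inv_cancel_left] at h4

/-! ### The torus -/

include hx hne in
/-- the diagonal elements of determinant one -/
theorem diag_of {c : G} (hc : c ∈ Lin D I) (hd : dt D I ⟨c, hc⟩ = 1) {a b : F}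
    (ha : D.rho c (w (v 0 1 0)) = a • w (v 0 1 0)) (hb : D.rho c f₀ = b • f₀) :
    a ≠ 0 ∧ b = (T.sg a)⁻¹ ∧ ∀ x, D.rho c (ι x) = (T.sg a * a⁻¹) • ι x := by
  have hcN := Lin_NR D I hc
  have ha0 : a ≠ 0 := by
    rintro rfl
    rw [zero_smul] at ha
    apply D.e_ne
    rw [← D.rho_inv_left I hcN (w (v 0 1 0)), ha, D.rho_zero I (inv_mem hcN)]
  have hsa : T.sg a ≠ 0 := T.sg_ne' ha0
  have h1 : b * T.sg a = 1 := by
    have h2 := g_rho D I hc f₀ (w (v 0 1 0))
    rw [ha, hb, D.g_smul, D.g_smul_right, D.g_fe, mul_one] at h2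
    exact h2
  have hb' : b = (T.sg a)⁻¹ := eq_inv_of_mul_eq_one_left h1
  have hb0 : b ≠ 0 := by rw [hb']; exact inv_ne_zero hsa
  -- `rho c (ι x₀)` is in `ι Φ`
  have h3 : g (D.rho c (ι x₀)) (w (v 0 1 0)) = 0 := by
    have h2 := g_rho D I hc (ι x₀) (w (v 0 1 0))
    rw [ha, D.g_smul_right, D.g_ιe] at h2
    exact (mul_eq_zero.1 h2).resolve_left hsa
  have h4 : g (D.rho c (ι x₀)) f₀ = 0 := by
    have h2 := g_rho D I hc (ι x₀) f₀
    rw [hb, D.g_smul_right, D.g_ιf] at h2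
    exact (mul_eq_zero.1 h2).resolve_left (T.sg_ne' hb0)
  obtain ⟨y, hy⟩ := D.decomp (D.rho c (ι x₀))
  rw [h3, h4, zero_smul, zero_smul, zero_add, add_zero] at hy
  obtain ⟨μ, rfl⟩ := hx y
  rw [map_smul] at hy
  have h5 := dt_diag D I hx hne hc ha hy hb
  rw [hd] at h5
  have hμ : μ = T.sg a * a⁻¹ := by
    have h6 : a * μ = T.sg a := by
      have : a * μ * b * T.sg a = T.sg a := by rw [← h5, one_mul]
      rwa [mul_assoc (a * μ), h1, mul_one] at this
    rw [← h6]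
    field_simp
  refine ⟨ha0, hb', fun x => ?_⟩
  obtain ⟨s, rfl⟩ := hx x
  rw [map_smul, rho_smul D I hc, hy, hμ, smul_smul, smul_smul, mul_comm]

include I hx hne N in
/-- **the torus** -/
theorem exists_tor [CharP k 2] (Fd : Fld T V R Q Q' v p φ χ) {c : F} (hc : c ≠ 0) :
    ∃ t ∈ LL V R Q Q', D.rho t (w (v 0 1 0)) = c • w (v 0 1 0) ∧ D.rho t f₀ = (T.sg c)⁻¹ • f₀ ∧
      ∀ x, D.rho t (ι x) = (T.sg c * c⁻¹) • ι x := by
  have hsc := T.sg_ne' hc
  obtain ⟨x, hxc⟩ := exists_hm D hx hne (T.tr c)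
  rw [T.tr_eq] at hxc
  obtain ⟨u, hu, hju⟩ := exists_jm D I Fd hxc.symm
  have hr' : c⁻¹ + T.sg c⁻¹ = hm (c⁻¹ • x) (c⁻¹ • x) := by
    rw [hm_smul D, hm_smul_right D, hxc, map_inv₀]
    field_simp
    ring
  obtain ⟨u', hu', hju'⟩ := exists_jm D I Fd hr'
  have hnL := N.mem
  have hnN := sw_NR D I N
  have hnLin := LL_le_Lin D I N.mem
  have huL : u ∈ LL V R Q Q' := UU_le_LL V R Q Q' (NN_le_UU hu)
  have hu'L : u' ∈ LL V R Q Q' := UU_le_LL V R Q Q' (NN_le_UU hu')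
  have huN := LL_NR D I huL
  have hu'N := LL_NR D I hu'L
  set u'' := n₀ * u' * n₀⁻¹ with hu''
  have hu''L : u'' ∈ LL V R Q Q' := mul_mem (mul_mem hnL hu'L) (inv_mem hnL)
  have hu''N := LL_NR D I hu''L
  have hu''Lin := LL_le_Lin D I hu''L
  have e1 : D.rho u f₀ = f₀ + ι x + c • w (v 0 1 0) := by rw [hju, jm_f D]
  have e2 : D.rho u'' (c • w (v 0 1 0)) = f₀ + ι x + c • w (v 0 1 0) := by
    have e3 : D.rho u'' (w (v 0 1 0)) = w (v 0 1 0) + ι (c⁻¹ • x) + c⁻¹ • f₀ := by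
      rw [hu'', D.rho_mul I (mul_mem hnN hu'N) (inv_mem hnN), D.rho_mul I hnN hu'N, sw_inv D I N, N.e, hju',
        jm_f D, D.rho_add I hnN, D.rho_add I hnN, rho_smul D I hnLin, N.f, N.i, N.e]
    rw [rho_smul D I hu''Lin, e3, smul_add, smul_add, map_smul, smul_smul, smul_smul, mul_inv_cancel₀ hc,
      one_smul, one_smul]
    abel
  set t' := u''⁻¹ * u * n₀ with ht'
  have ht'L : t' ∈ LL V R Q Q' := mul_mem (mul_mem (inv_mem hu''L) huL) hnL
  have ht'Lin := LL_le_Lin D I ht'L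
  have ht'N := LL_NR D I ht'L
  have e4 : D.rho t' (w (v 0 1 0)) = c • w (v 0 1 0) := by
    rw [ht', D.rho_mul I (mul_mem (inv_mem hu''N) huN) hnN, D.rho_mul I (inv_mem hu''N) huN, N.e, e1, ← e2,
      D.rho_inv_left I hu''N]
  have h5 : g (D.rho t' f₀) (w (v 0 1 0)) = (T.sg c)⁻¹ := by
    have h6 := g_rho D I ht'Lin f₀ (w (v 0 1 0))
    rw [e4, D.g_smul_right, D.g_fe] at h6
    rw [← mul_right_inj' hsc, h6, mul_inv_cancel₀ hsc]
  have h6 : g (D.rho t' f₀) (D.rho t' f₀) = 0 := by rw [g_rho D I ht'Lin, D.g_ff]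
  have h7 : D.rho t' f₀ ≠ 0 := by
    intro h0
    rw [h0, D.g_zero_left] at h5
    exact inv_ne_zero hsc h5.symm
  rcases point D hx h7 h6 with ⟨s, -, hs⟩ | ⟨y, r, b, -, hr, hb, hy⟩
  · exfalso
    rw [hs, D.g_smul, D.g_ee, mul_zero] at h5
    exact inv_ne_zero hsc h5.symm
  · rw [h5] at hb
    obtain ⟨u₃, hu₃, hju₃⟩ := exists_jm D I Fd hr
    have hu₃L : u₃ ∈ LL V R Q Q' := UU_le_LL V R Q Q' (NN_le_UU hu₃)
    have hu₃N := LL_NR D I hu₃L
    have hu₃Lin := LL_le_Lin D I hu₃L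
    have htL : u₃⁻¹ * t' ∈ LL V R Q Q' := mul_mem (inv_mem hu₃L) ht'L
    have e7 : D.rho (u₃⁻¹ * t') (w (v 0 1 0)) = c • w (v 0 1 0) := by
      have e8 : D.rho u₃ (w (v 0 1 0)) = w (v 0 1 0) := by rw [hju₃, jm_e D]
      have e9 : D.rho u₃⁻¹ (w (v 0 1 0)) = w (v 0 1 0) := by
        have := D.rho_inv_left I hu₃N (w (v 0 1 0))
        rwa [e8] at this
      rw [D.rho_mul I (inv_mem hu₃N) ht'N, e4, rho_smul D I (inv_mem hu₃Lin), e9]
    have e8 : D.rho (u₃⁻¹ * t') f₀ = (T.sg c)⁻¹ • f₀ := by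
      have e9 : D.rho u₃ f₀ = f₀ + ι y + r • w (v 0 1 0) := by rw [hju₃, jm_f D]
      rw [D.rho_mul I (inv_mem hu₃N) ht'N, hy, ← e9, rho_smul D I (inv_mem hu₃Lin), D.rho_inv_left I hu₃N, hb]
    obtain ⟨-, -, h9⟩ := diag_of D I hx hne (LL_le_Lin D I htL) (dt_LL D I htL) e7 e8
    exact ⟨_, htL, e7, e8, h9⟩

/-! ### `PanOf.Abs` -/

include I N in
/-- an element of `UU` which stabilises `F f₀` is in `Q` -/
theorem mem_Q_of_f [CharP k 2] {u : G} (hu : u ∈ UU V Q Q') {s : F} (h : D.rho u f₀ = s • f₀) : u ∈ Q := by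
  have _ := N
  obtain ⟨x, r, hr, hj⟩ := rho_UU D I hu
  rw [hj, jm_f D] at h
  have h1 : x = 0 := by
    apply D.hm_nondeg
    intro y
    have h2 := congrArg (fun m => g m (ι y)) h
    simp only [D.g_add, D.g_smul, D.g_fι, D.g_ιι, D.g_eι] at h2
    linear_combination h2
  have h2 : r = 0 := by
    have h2 := congrArg (fun m => g m f₀) h
    simp only [D.g_add, D.g_smul, D.g_ff, D.g_ιf, D.g_ef] at h2
    linear_combination h2
  apply D.mem_Q_of_rho I (UU_NR I hu)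
  intro m
  rw [hj, h1, h2, jm_zero D]

include I N in
/-- normalising `UU^n₀` is stabilising `F f₀` -/
theorem stab_f [CharP k 2] (Fd : Fld T V R Q Q' v p φ χ) {c : G} (hc : c ∈ normalizer (R : Set G))
    (h : cj c (cj n₀ (UU V Q Q')) = cj n₀ (UU V Q Q')) : ∃ s : F, D.rho c f₀ = s • f₀ := by
  have hnN := sw_NR D I N
  have hnLin := LL_le_Lin D I N.mem
  have h1 : cj (n₀⁻¹ * c * n₀) (UU V Q Q') = UU V Q Q' := by
    rw [cj_mul, cj_mul, h, cj_inv_cj]
  obtain ⟨s, hs⟩ := stab_of_norm D I Fd (mul_mem (mul_mem (inv_mem hnN) hc) hnN) h1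
  refine ⟨s, ?_⟩
  rw [D.rho_mul I (mul_mem (inv_mem hnN) hc) hnN, D.rho_mul I (inv_mem hnN) hc, N.e] at hs
  rw [← D.rho_inv_right I hnN (D.rho c f₀), hs, rho_smul D I hnLin, N.e]

include I N in
theorem cj_of_f [CharP k 2] {c : G} (hc : c ∈ normalizer (R : Set G)) (h : ∃ s : F, D.rho c f₀ = s • f₀) :
    cj c (cj n₀ (UU V Q Q')) = cj n₀ (UU V Q Q') := by
  have hnN := sw_NR D I N
  have hnLin := LL_le_Lin D I N.mem
  obtain ⟨s, hs⟩ := h
  have h1 : D.rho (n₀⁻¹ * c * n₀) (w (v 0 1 0)) = s • w (v 0 1 0) := by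
    rw [D.rho_mul I (mul_mem (inv_mem hnN) hc) hnN, D.rho_mul I (inv_mem hnN) hc, N.e, hs,
      rho_smul D I (inv_mem hnLin), sw_inv D I N, N.f]
  have h2 := norm_UU D I (mul_mem (mul_mem (inv_mem hnN) hc) hnN) ⟨s, h1⟩
  have h3 := congrArg (cj n₀) h2
  rwa [← cj_mul, show n₀ * (n₀⁻¹ * c * n₀) = c * n₀ by group, cj_mul] at h3

include I hx hne N in
/-- **the rank one data of `L`** -/
theorem abs [CharP k 2] (Fd : Fld T V R Q Q' v p φ χ) :
    PanOf.Abs (LL V R Q Q') (UU V Q Q') Q n₀ where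
  UL := UU_le_LL V R Q Q'
  QU := Q_le_UU
  LQ := by
    intro c hc
    have hcN := LL_NR D I hc
    rw [mem_normalizer_iff]
    intro x
    refine ⟨fun h => I.nor c hcN x h, fun h => ?_⟩
    have := I.nor_inv hcN h
    simpa [mul_assoc] using this
  two := UU_two D I
  nL := N.mem
  trans := fun c hc => move D I hx N Fd (LL_NR D I hc)
  ne := by
    intro h
    obtain ⟨s, hs⟩ := stab_of_norm D I Fd (sw_NR D I N) h
    rw [N.e] at hs
    have h1 := D.g_fe
    rw [hs, D.g_smul, D.g_ee, mul_zero] at h1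
    exact zero_ne_one h1
  swap := by
    rw [← cj_mul]
    apply norm_UU D I (mul_mem (sw_NR D I N) (sw_NR D I N))
    refine ⟨1, ?_⟩
    rw [D.rho_mul I (sw_NR D I N) (sw_NR D I N), N.e, N.f, one_smul]
  inter := by
    intro u hu h
    obtain ⟨s, hs⟩ := stab_f D I N Fd (UU_NR I hu) h
    exact mem_Q_of_f D I N hu hs
  fix := by
    intro u hu h
    obtain ⟨b, hb0, hb1⟩ := T.exists_b
    have hbF : algebraMap k F b ≠ 0 := fun h => hb0 ((map_eq_zero _).1 h)
    obtain ⟨t, htL, he, hf, hi⟩ := exists_tor D I hx hne N Fd hbF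
    have htN := LL_NR D I htL
    have htLin := LL_le_Lin D I htL
    have huN := UU_NR I hu
    have h1 := h t htL (norm_UU D I htN ⟨_, he⟩) (cj_of_f D I N htN ⟨_, hf⟩)
    -- `t u = (t u t⁻¹ u⁻¹) u t` on `f₀`
    have h2 : D.rho t (D.rho u f₀) = D.rho u (D.rho t f₀) := by
      have e : t * u = (t * u * t⁻¹ * u⁻¹) * (u * t) := by group
      rw [← D.rho_mul I htN huN, e, D.rho_mul I (I.Q_NR h1) (mul_mem huN htN), D.rho_Q I h1,
        D.rho_mul I huN htN]
    obtain ⟨x, r, hr, hj⟩ := rho_UU D I hu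
    have huLin := UU_le_Lin D I hu
    rw [T.sg_alg] at hf hi
    rw [hf, rho_smul D I huLin, hj, jm_f D, D.rho_add I htN, D.rho_add I htN, rho_smul D I htLin, he, hf, hi,
      mul_inv_cancel₀ hbF, one_smul, smul_smul, smul_add, smul_add, smul_smul] at h2
    have hbi : (algebraMap k F b)⁻¹ ≠ 1 := by
      intro h3
      apply hb1
      have h4 : algebraMap k F b = 1 := inv_eq_one.1 h3
      rw [← map_one (algebraMap k F)] at h4
      exact T.alg_inj h4
    have hx0 : x = 0 := by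
      apply D.hm_nondeg
      intro y
      have h3 := congrArg (fun m => g m (ι y)) h2
      simp only [D.g_add, D.g_smul, D.g_fι, D.g_ιι, D.g_eι, mul_zero, zero_add, add_zero] at h3
      have h4 : ((algebraMap k F b)⁻¹ - 1) * hm x y = 0 := by linear_combination -h3
      exact (mul_eq_zero.1 h4).resolve_left (sub_ne_zero.2 hbi)
    have hr0 : r = 0 := by
      have h3 := congrArg (fun m => g m f₀) h2
      simp only [D.g_add, D.g_smul, D.g_ff, D.g_ιf, D.g_ef, mul_zero, zero_add, add_zero, mul_one] at h3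
      by_contra hr0
      have h5 : algebraMap k F b * algebraMap k F b = 1 := by
        have h6 : (algebraMap k F b * algebraMap k F b) * r = r := by
          have h7 : algebraMap k F b * (r * algebraMap k F b) = algebraMap k F b * ((algebraMap k F b)⁻¹ * r) := by
            rw [h3]
          rw [mul_inv_cancel_left₀ hbF] at h7
          linear_combination h7
        have h7 : (algebraMap k F b * algebraMap k F b - 1) * r = 0 := by rw [sub_mul, h6, one_mul, sub_self]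
        exact sub_eq_zero.1 ((mul_eq_zero.1 h7).resolve_right hr0)
      rw [← map_mul, ← map_one (algebraMap k F)] at h5
      have h6 := T.alg_inj h5
      have h7 : (b + 1) * (b + 1) = 0 := by
        have : (b + 1) * (b + 1) = b * b + 1 + (b + b) := by ring
        rw [this, h6, CharTwo.add_self_eq_zero, CharTwo.add_self_eq_zero, add_zero]
      exact hb1 (CharTwo.add_eq_zero.1 (mul_self_eq_zero.1 h7))
    apply D.mem_Q_of_rho I huN
    intro m
    rw [hj, hx0, hr0, jm_zero D]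

end

end Cfsg.Agent.RankTwoClose.UFive.LSide

end

section


/-!
# The weights of the torus of `SU₃(q)` on its natural module

`F` a field of order `q²`, `q ≥ 4` even: `{(α, α^{q-1}, α^{-q}) : α ∈ F×}` spans `F³` additively.
-/

set_option autoImplicit false
set_option linter.unusedSectionVars false
set_option linter.style.haveILetI false

namespace Cfsg.Agent.RankTwoClose.UFive.Weights

variable {F : Type*} [Field F] [Fintype F] [CharP F 2] {q : ℕ}

/-- the diagonal action -/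
def act (q : ℕ) (α : Fˣ) (x : F × F × F) : F × F × F :=
  ((α : F) * x.1, (α : F) ^ (q - 1) * x.2.1, ((α⁻¹ : Fˣ) : F) ^ q * x.2.2)

theorem frob (hF : Fintype.card F = q ^ 2) (h2 : ∃ m, q = 2 ^ m) (x y : F) : (x + y) ^ q = x ^ q + y ^ q := by
  obtain ⟨m, rfl⟩ := h2
  haveI : Fact (Nat.Prime 2) := ⟨Nat.prime_two⟩
  exact add_pow_char_pow x y 2 m

theorem pow_inj {m : ℕ} {x : F} (h : x ^ (2 ^ m) = 0) : x = 0 := pow_eq_zero_iff (by positivity) |>.1 h

/-- **The weights `1`, `q - 1`, `-q` are linearly disjoint over `𝔽₂`.** -/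
theorem span (hF : Fintype.card F = q ^ 2) (h2 : ∃ m, q = 2 ^ m) (h4 : 4 ≤ q) (W : AddSubgroup (F × F × F))
    (hW : ∀ α : Fˣ, ∀ x ∈ W, act q α x ∈ W) (h1 : ((1 : F), (1 : F), (1 : F)) ∈ W) : W = ⊤ := by
  classical
  have hchar : ∀ x : F, x + x = 0 := fun x => CharTwo.add_self_eq_zero x
  have hq1 : 1 < q := by omega
  -- powers
  have hpow : ∀ α : Fˣ, (α : F) ^ (q ^ 2 - 1) = 1 := by
    intro α
    have h := FiniteField.pow_card_sub_one_eq_one (α : F) α.ne_zero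
    rwa [hF] at h
  -- an element `α ≠ 1` with `α^{q-1} = 1`
  obtain ⟨g, hg⟩ := IsCyclic.exists_generator (α := Fˣ)
  have hog : orderOf g = q ^ 2 - 1 := by
    rw [orderOf_eq_card_of_forall_mem_zpowers hg, Nat.card_eq_fintype_card, Fintype.card_units, hF]
  have hfac : q ^ 2 - 1 = (q + 1) * (q - 1) := by
    rw [show q ^ 2 - 1 = q ^ 2 - 1 ^ 2 by norm_num, Nat.sq_sub_sq]
  obtain ⟨a, ha, ha1⟩ : ∃ a : Fˣ, a ^ (q - 1) = 1 ∧ a ≠ 1 := by
    refine ⟨g ^ (q + 1), ?_, ?_⟩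
    · rw [← pow_mul, ← hfac, ← hog, pow_orderOf_eq_one]
    · intro h
      have h3 := orderOf_dvd_of_pow_eq_one h
      rw [hog, hfac] at h3
      have h5 := Nat.le_of_dvd (by omega) h3
      have h6 : (q + 1) * 2 ≤ (q + 1) * (q - 1) := Nat.mul_le_mul_left _ (by omega)
      omega
  -- `(a - 1, 0, ·) ∈ W`
  have haq : ((a⁻¹ : Fˣ) : F) ^ q = ((a⁻¹ : Fˣ) : F) := by
    have h3 : a ^ q = a := by
      have : q = (q - 1) + 1 := by omega
      rw [this, pow_succ, ha, one_mul]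
    rw [← Units.val_pow_eq_pow_val, inv_pow, h3]
  have haF : (a : F) ^ (q - 1) = 1 := by rw [← Units.val_pow_eq_pow_val, ha, Units.val_one]
  have e1 : ((a : F) + 1, (0 : F), ((a⁻¹ : Fˣ) : F) + 1) ∈ W := by
    have h3 := W.add_mem (hW a _ h1) h1
    have e : act q a ((1 : F), (1 : F), (1 : F)) + ((1 : F), (1 : F), (1 : F)) =
      ((a : F) + 1, (0 : F), ((a⁻¹ : Fˣ) : F) + 1) := by
      simp only [act, mul_one, haq, haF, Prod.mk_add_mk, hchar]
    rwa [e] at h3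
  have ha1F : (a : F) + 1 ≠ 0 := by
    intro h
    apply ha1
    have h3 : (a : F) = 1 := by
      have := hchar (1 : F)
      have h5 : (a : F) + 1 + 1 = 0 + 1 := by rw [h]
      rwa [add_assoc, this, add_zero, zero_add] at h5
    exact Units.ext h3
  have ha2F : ((a⁻¹ : Fˣ) : F) + 1 ≠ 0 := by
    intro h
    apply ha1F
    have h3 : (a : F) * (((a⁻¹ : Fˣ) : F) + 1) = 0 := by rw [h, mul_zero]
    rw [mul_add, Units.mul_inv, mul_one, add_comm] at h3
    exact h3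
  -- `b` with `b² + b + 1 ≠ 0`, `b ≠ 0, 1`
  obtain ⟨b, hb0, hb1, hb2⟩ : ∃ b : F, b ≠ 0 ∧ b + 1 ≠ 0 ∧ b ^ 2 + b + 1 ≠ 0 := by
    by_contra hcon
    push Not at hcon
    have hsub : (Finset.univ : Finset F) ⊆ {0, 1} ∪ (Polynomial.roots (Polynomial.X ^ 2 + Polynomial.X + 1 : Polynomial F)).toFinset := by
      intro b _
      by_cases hb : b = 0
      · simp [hb]
      by_cases hb' : b + 1 = 0
      · have : b = 1 := by
          have h5 : b + 1 + 1 = 0 + 1 := by rw [hb']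
          rwa [add_assoc, hchar, add_zero, zero_add] at h5
        simp [this]
      · have h3 := hcon b hb hb'
        refine Finset.mem_union_right _ ?_
        rw [Multiset.mem_toFinset, Polynomial.mem_roots (by
          intro h0
          have := congrArg (Polynomial.eval 0) h0
          simp at this)]
        simpa [Polynomial.IsRoot] using h3
    have h3 := Finset.card_le_card hsub
    have h5 : (Polynomial.roots (Polynomial.X ^ 2 + Polynomial.X + 1 : Polynomial F)).toFinset.card ≤ 2 := by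
      refine (Multiset.toFinset_card_le _).trans ((Polynomial.card_roots' _).trans ?_)
      compute_degree
    have h6 := Finset.card_union_le ({0, 1} : Finset F) (Polynomial.roots (Polynomial.X ^ 2 + Polynomial.X + 1 : Polynomial F)).toFinset
    have h7 : ({0, 1} : Finset F).card ≤ 2 := Finset.card_le_two
    rw [Finset.card_univ, hF] at h3
    have h8 : 4 ^ 2 ≤ q ^ 2 := Nat.pow_le_pow_left h4 2
    omega
  set β : Fˣ := Units.mk0 b hb0 with hβ
  set γ : Fˣ := Units.mk0 (b + 1) hb1 with hγ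
  -- the group ring element `β + γ + 1` kills the first coordinate
  have kill : ∀ x z : F, (x, (0 : F), z) ∈ W →
      ((0 : F), (0 : F), (((β⁻¹ : Fˣ) : F) + ((γ⁻¹ : Fˣ) : F) + 1) ^ q * z) ∈ W := by
    intro x z hx
    have h3 := W.add_mem (W.add_mem (hW β _ hx) (hW γ _ hx)) hx
    have e : act q β (x, (0 : F), z) + act q γ (x, (0 : F), z) + (x, (0 : F), z) =
      ((0 : F), (0 : F), (((β⁻¹ : Fˣ) : F) + ((γ⁻¹ : Fˣ) : F) + 1) ^ q * z) := by
      simp only [act, mul_zero, Prod.mk_add_mk, add_zero]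
      refine Prod.ext ?_ (Prod.ext rfl ?_)
      · change b * x + (b + 1) * x + x = 0
        have : b * x + (b + 1) * x + x = (b + b) * x + (x + x) := by ring
        rw [this, hchar, hchar, zero_mul, add_zero]
      · change ((β⁻¹ : Fˣ) : F) ^ q * z + ((γ⁻¹ : Fˣ) : F) ^ q * z + z = _
        rw [frob hF h2, frob hF h2, one_pow]
        ring
    rwa [e] at h3
  have hc : (((β⁻¹ : Fˣ) : F) + ((γ⁻¹ : Fˣ) : F) + 1) ≠ 0 := by
    intro h
    apply hb2
    have h3 : b * (b + 1) * (((β⁻¹ : Fˣ) : F) + ((γ⁻¹ : Fˣ) : F) + 1) = 0 := by rw [h, mul_zero]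
    have h5 : ((β⁻¹ : Fˣ) : F) = b⁻¹ := by rw [Units.val_inv_eq_inv_val]; rfl
    have h6 : ((γ⁻¹ : Fˣ) : F) = (b + 1)⁻¹ := by rw [Units.val_inv_eq_inv_val]; rfl
    rw [h5, h6] at h3
    have h7 : b * (b + 1) * (b⁻¹ + (b + 1)⁻¹ + 1) = (b + 1) + b + b * (b + 1) := by
      field_simp
    rw [h7] at h3
    have h8 : (b + 1) + b + b * (b + 1) = b ^ 2 + b + 1 + (b + b) := by ring
    rw [h8, hchar, add_zero] at h3
    exact h3
  -- the third coordinate
  have third : ∀ z : F, ((0 : F), (0 : F), z) ∈ W := by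
    have h3 := kill _ _ e1
    set c : F := (((β⁻¹ : Fˣ) : F) + ((γ⁻¹ : Fˣ) : F) + 1) ^ q * (((a⁻¹ : Fˣ) : F) + 1) with hcdef
    have hc0 : c ≠ 0 := mul_ne_zero (pow_ne_zero _ hc) ha2F
    intro z
    by_cases hz : z = 0
    · rw [hz]; exact W.zero_mem
    -- `δ` with `δ^{-q} c = z`
    have hsurj : Function.Surjective (fun x : F => x ^ q) := by
      apply Finite.surjective_of_injective
      intro x y hxy
      obtain ⟨m, hm⟩ := h2
      have h5 : (x + y) ^ q = 0 := by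
        rw [frob hF ⟨m, hm⟩]
        change x ^ q = y ^ q at hxy
        rw [hxy, hchar]
      have h6 := pow_eq_zero_iff (by omega : q ≠ 0) |>.1 h5
      have h7 : x + y + y = 0 + y := by rw [h6]
      rwa [add_assoc, hchar, add_zero, zero_add] at h7
    obtain ⟨d, hd⟩ := hsurj (z * c⁻¹)
    have hd0 : d ≠ 0 := by
      intro h
      rw [h] at hd
      change (0 : F) ^ q = z * c⁻¹ at hd
      rw [zero_pow (by omega)] at hd
      exact mul_ne_zero hz (inv_ne_zero hc0) hd.symm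
    have h5 := hW (Units.mk0 d hd0)⁻¹ _ h3
    have e : act q (Units.mk0 d hd0)⁻¹ ((0 : F), (0 : F), c) = ((0 : F), (0 : F), z) := by
      simp only [act, mul_zero, inv_inv, Units.val_mk0]
      change ((0 : F), (0 : F), (fun x : F => x ^ q) d * c) = _
      rw [hd, inv_mul_cancel_right₀ hc0]
    rwa [e] at h5
  -- the first coordinate
  have first : ∀ x : F, (x, (0 : F), (0 : F)) ∈ W := by
    have h3 : ((a : F) + 1, (0 : F), (0 : F)) ∈ W := by
      have h5 := W.add_mem e1 (third (((a⁻¹ : Fˣ) : F) + 1))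
      have e : ((a : F) + 1, (0 : F), ((a⁻¹ : Fˣ) : F) + 1) + ((0 : F), (0 : F), ((a⁻¹ : Fˣ) : F) + 1) =
        ((a : F) + 1, (0 : F), (0 : F)) := by
        simp only [Prod.mk_add_mk, add_zero, hchar]
      rwa [e] at h5
    intro x
    by_cases hx : x = 0
    · rw [hx]; exact W.zero_mem
    have h5 := hW (Units.mk0 (x * ((a : F) + 1)⁻¹) (mul_ne_zero hx (inv_ne_zero ha1F))) _ h3
    have e : act q (Units.mk0 (x * ((a : F) + 1)⁻¹) (mul_ne_zero hx (inv_ne_zero ha1F))) ((a : F) + 1, (0 : F), (0 : F)) =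
      (x, (0 : F), (0 : F)) := by
      simp only [act, mul_zero, Units.val_mk0]
      rw [inv_mul_cancel_right₀ ha1F]
    rwa [e] at h5
  -- the second coordinate
  have second1 : ((0 : F), (1 : F), (0 : F)) ∈ W := by
    have h3 := W.add_mem (W.add_mem h1 (first 1)) (third 1)
    have e : ((1 : F), (1 : F), (1 : F)) + ((1 : F), (0 : F), (0 : F)) + ((0 : F), (0 : F), (1 : F)) =
      ((0 : F), (1 : F), (0 : F)) := by
      simp only [Prod.mk_add_mk, add_zero, hchar]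
    rwa [e] at h3
  let K : Subring F :=
    { carrier := {y | ∀ x : F, ((0 : F), x, (0 : F)) ∈ W → ((0 : F), y * x, (0 : F)) ∈ W}
      mul_mem' := by
        intro y y' hy hy' x hx
        rw [mul_assoc]
        exact hy _ (hy' x hx)
      one_mem' := by
        intro x hx
        rwa [one_mul]
      add_mem' := by
        intro y y' hy hy' x hx
        have h3 := W.add_mem (hy x hx) (hy' x hx)
        have e : ((0 : F), y * x, (0 : F)) + ((0 : F), y' * x, (0 : F)) = ((0 : F), (y + y') * x, (0 : F)) := by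
          simp only [Prod.mk_add_mk, add_zero, add_mul]
        rwa [e] at h3
      zero_mem' := by
        intro x _
        rw [zero_mul]
        exact W.zero_mem
      neg_mem' := by
        intro y hy x hx
        have h3 := W.neg_mem (hy x hx)
        have e : -((0 : F), y * x, (0 : F)) = ((0 : F), -y * x, (0 : F)) := by
          simp only [Prod.neg_mk, neg_zero, neg_mul]
        rwa [e] at h3 }
  have hK : ∀ α : Fˣ, (α : F) ^ (q - 1) ∈ K := by
    intro α x hx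
    have h3 := hW α _ hx
    have e : act q α ((0 : F), x, (0 : F)) = ((0 : F), (α : F) ^ (q - 1) * x, (0 : F)) := by
      simp only [act, mul_zero]
    rwa [e] at h3
  -- `K` is a field of order `> q`
  have hKtop : ∀ x : F, x ∈ K := by
    have hinj : Set.InjOn (fun i : ℕ => ((g ^ (q - 1)) ^ i : Fˣ)) (Finset.range (q + 1)) := by
      intro i hi j hj hij
      have hord : orderOf (g ^ (q - 1)) = q + 1 := by
        rw [orderOf_pow_of_dvd (by omega) (by rw [hog, hfac]; exact dvd_mul_left _ _), hog, hfac]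
        exact Nat.mul_div_cancel _ (by omega)
      have h3 : (g ^ (q - 1)) ^ i = (g ^ (q - 1)) ^ j := hij
      rw [pow_inj_mod, hord] at h3
      have hi' : i < q + 1 := Finset.mem_range.1 hi
      have hj' : j < q + 1 := Finset.mem_range.1 hj
      rwa [Nat.mod_eq_of_lt hi', Nat.mod_eq_of_lt hj'] at h3
    have hcard : q + 1 ≤ Nat.card K := by
      have h3 : Function.Injective (fun i : Fin (q + 1) => (⟨((g ^ (q - 1)) ^ (i : ℕ) : Fˣ), by
          rw [Units.val_pow_eq_pow_val]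
          refine K.pow_mem ?_ _
          rw [Units.val_pow_eq_pow_val]
          exact hK g⟩ : K)) := by
        intro i j hij
        have h5 : (((g ^ (q - 1)) ^ (i : ℕ) : Fˣ) : F) = (((g ^ (q - 1)) ^ (j : ℕ) : Fˣ) : F) :=
          congrArg (fun x : K => (x : F)) hij
        exact Fin.ext (hinj (Finset.mem_coe.2 (Finset.mem_range.2 i.2)) (Finset.mem_coe.2 (Finset.mem_range.2 j.2)) (Units.ext h5))
      have h5 := Nat.card_le_card_of_injective _ h3
      rwa [Nat.card_eq_fintype_card, Fintype.card_fin] at h5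
    -- cardinality: `F` is a vector space over `K`
    letI : Field K := Fintype.fieldOfDomain K
    haveI : Fintype K := Fintype.ofFinite K
    have h3 := Module.card_eq_pow_finrank (K := K) (V := F)
    rw [hF] at h3
    have h5 : Nat.card K = Fintype.card K := Nat.card_eq_fintype_card
    rw [h5] at hcard
    have h6 : Module.finrank K F = 1 := by
      have h7 : Module.finrank K F < 2 := by
        by_contra hcon
        push Not at hcon
        have h8 : (q + 1) ^ 2 ≤ Fintype.card K ^ Module.finrank K F :=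
          (Nat.pow_le_pow_left hcard 2).trans (Nat.pow_le_pow_right (by omega) hcon)
        rw [← h3] at h8
        have := Nat.pow_lt_pow_left (show q < q + 1 by omega) (n := 2) (by norm_num)
        omega
      have h8 : 0 < Module.finrank K F := Module.finrank_pos
      omega
    rw [h6, pow_one] at h3
    have h7 : Nat.card K = Nat.card F := by rw [h5, ← h3, Nat.card_eq_fintype_card, hF]
    have h8 : (K : Set F) = Set.univ :=
      Set.eq_of_subset_of_ncard_le (Set.subset_univ _) (by rw [Set.ncard_univ]; exact h7.ge)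
    intro x
    have : x ∈ (K : Set F) := by rw [h8]; trivial
    exact this
  have second : ∀ y : F, ((0 : F), y, (0 : F)) ∈ W := by
    intro y
    have h3 := hKtop y 1 second1
    rwa [mul_one] at h3
  rw [eq_top_iff]
  rintro ⟨x, y, z⟩ -
  have h3 := W.add_mem (W.add_mem (first x) (second y)) (third z)
  have e : (x, (0 : F), (0 : F)) + ((0 : F), y, (0 : F)) + ((0 : F), (0 : F), z) = (x, y, z) := by
    simp only [Prod.mk_add_mk, add_zero, zero_add]
  rwa [e] at h3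

/-- **The cyclic vector**, group form: `Q/Z` is `F³` with the torus `A` acting with the weights
`1`, `q - 1`, `-q`. -/
theorem exists_cyc {G : Type*} [Group G] (hF : Fintype.card F = q ^ 2) (h2 : ∃ m, q = 2 ^ m) (h4 : 4 ≤ q)
    {Q Z A : Subgroup G} (π : G → F × F × F) (hmul : ∀ x ∈ Q, ∀ y ∈ Q, π (x * y) = π x + π y)
    (hsurj : ∀ v, ∃ x ∈ Q, π x = v) (hker : ∀ x ∈ Q, π x = 0 → x ∈ Z) (hZQ : Z ≤ Q)
    (hAQ : ∀ a ∈ A, ∀ x ∈ Q, a * x * a⁻¹ ∈ Q) (hAZ : ∀ a ∈ A, ∀ z ∈ Z, a * z * a⁻¹ ∈ Z)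
    (hA : ∀ α : Fˣ, ∃ a ∈ A, ∀ x ∈ Q, π (a * x * a⁻¹) = act q α (π x)) :
    ∃ w ∈ Q, Q ≤ Subgroup.closure {x | ∃ a ∈ A, x = a * w * a⁻¹} ⊔ Z := by
  obtain ⟨w, hw, hw1⟩ := hsurj (1, 1, 1)
  refine ⟨w, hw, ?_⟩
  set M := Subgroup.closure {x | ∃ a ∈ A, x = a * w * a⁻¹} ⊔ Z with hM
  have hMQ : M ≤ Q := by
    refine sup_le ?_ hZQ
    rw [Subgroup.closure_le]
    rintro _ ⟨a, ha, rfl⟩
    exact hAQ a ha w hw
  have hMA : ∀ a ∈ A, ∀ x ∈ M, a * x * a⁻¹ ∈ M := by
    intro a ha x hx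
    have h1 : M ≤ M.comap (MulAut.conj a).toMonoidHom := by
      refine sup_le ?_ ?_
      · rw [Subgroup.closure_le]
        rintro _ ⟨b, hb, rfl⟩
        change a * (b * w * b⁻¹) * a⁻¹ ∈ M
        exact Subgroup.mem_sup_left (Subgroup.subset_closure ⟨a * b, mul_mem ha hb, by group⟩)
      · intro z hz
        exact Subgroup.mem_sup_right (hAZ a ha z hz)
    exact h1 hx
  have h0 : π 1 = 0 := by
    have := hmul 1 (one_mem _) 1 (one_mem _)
    rw [mul_one] at this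
    exact left_eq_add.1 this
  have hinv : ∀ x ∈ Q, π x⁻¹ = -π x := by
    intro x hx
    have := hmul x hx x⁻¹ (inv_mem hx)
    rw [mul_inv_cancel, h0] at this
    exact (neg_eq_of_add_eq_zero_right this.symm).symm
  let W : AddSubgroup (F × F × F) :=
    { carrier := {v | ∃ m ∈ M, π m = v}
      add_mem' := by
        rintro _ _ ⟨m, hm, rfl⟩ ⟨m', hm', rfl⟩
        exact ⟨m * m', mul_mem hm hm', hmul m (hMQ hm) m' (hMQ hm')⟩
      zero_mem' := ⟨1, one_mem _, h0⟩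
      neg_mem' := by
        rintro _ ⟨m, hm, rfl⟩
        exact ⟨m⁻¹, inv_mem hm, hinv m (hMQ hm)⟩ }
  have hW : W = ⊤ := by
    refine span hF h2 h4 W ?_ ?_
    · rintro α _ ⟨m, hm, rfl⟩
      obtain ⟨a, ha, h⟩ := hA α
      exact ⟨a * m * a⁻¹, hMA a ha m hm, h m (hMQ hm)⟩
    · refine ⟨w, Subgroup.mem_sup_left (Subgroup.subset_closure ⟨1, one_mem _, by group⟩), hw1⟩
  intro x hx
  have h3 : π x ∈ W := by rw [hW]; trivial
  obtain ⟨m, hm, e⟩ := h3
  have h5 : m⁻¹ * x ∈ Z := by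
    refine hker _ (mul_mem (inv_mem (hMQ hm)) hx) ?_
    rw [hmul _ (inv_mem (hMQ hm)) _ hx, hinv m (hMQ hm), e, neg_add_cancel]
  have h6 := mul_mem hm (Subgroup.mem_sup_right h5 : m⁻¹ * x ∈ M)
  rwa [mul_inv_cancel_left] at h6

end Cfsg.Agent.RankTwoClose.UFive.Weights

end
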