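import Cfsg.Agent.Mrg.RankTwoClose.UFive.LStab
import Cfsg.Agent.Mrg.Omega.NOne.SU.HermCo

section


/-!
# `U₅(q)`: the side `L` from THEOREM UNI, part 4: the torus `A`

* `mem_UU_of_e` : the stabiliser of `e₀` in `L` is `UU`;
* `TT` : the stabiliser of `F e₀`, `F f₀` in `L`; `exists_A` : a complement `A` of `Q` in `TT`;
* `Tor A` : the properties of `A`.
-/

set_option autoImplicit false
set_option linter.unusedSectionVars false

open Subgroup

namespace Cfsg.Agent.RankTwoClose.UFive.LSide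

open Cfsg.Agent.Omega.NOne.SU
open Cfsg.Agent.RankTwoClose.UFour (cj cj_mul cj_inv_cj cj_cj_inv cj_one mem_norm_iff cj_eq_of_mem)

/-- in a 2-group, a proper subgroup is properly contained in its normaliser -/
theorem exists_norm_of_lt {G : Type*} [Group G] [Finite G] {P U : Subgroup G} (hP : IsPGroup 2 P) (hU : U ≤ P)
    (hne : ¬ P ≤ U) : ∃ x ∈ P, x ∉ U ∧ cj x U = U := by
  have : Fact (Nat.Prime 2) := ⟨Nat.prime_two⟩
  have hnil : Group.IsNilpotent P := hP.isNilpotent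
  have hnc : NormalizerCondition P := Group.normalizerCondition_of_isNilpotent
  have hlt : U.subgroupOf P < ⊤ := by
    rw [lt_top_iff_ne_top]
    intro h
    exact hne (subgroupOf_eq_top.1 h)
  obtain ⟨x, hx, hxn⟩ := SetLike.exists_of_lt (hnc _ hlt)
  refine ⟨x, x.2, fun h => hxn (mem_subgroupOf.2 h), ?_⟩
  rw [← mem_norm_iff, mem_normalizer_iff]
  intro u
  rw [mem_normalizer_iff] at hx
  constructor
  · intro hu
    exact (hx ⟨u, hU hu⟩).1 (mem_subgroupOf.2 hu)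
  · intro hu
    have h1 : u ∈ P := by
      have h2 := mul_mem (mul_mem (inv_mem x.2) (hU hu)) x.2
      have e : (x : G)⁻¹ * (x * u * (x : G)⁻¹) * x = u := by group
      rwa [e] at h2
    exact (hx ⟨u, h1⟩).2 (mem_subgroupOf.2 hu)

variable {G : Type*} [Group G] {k F : Type*} [Field k] [Field F] [Algebra k F]

/-- the stabiliser of the two points -/
def TT (V R Q Q' : Subgroup G) (n₀ : G) : Subgroup G :=
  LL V R Q Q' ⊓ (normalizer (UU V Q Q' : Set G) ⊓ normalizer (cj n₀ (UU V Q Q') : Set G))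

theorem mem_TT {V R Q Q' : Subgroup G} {n₀ t : G} : t ∈ TT V R Q Q' n₀ ↔
    t ∈ LL V R Q Q' ∧ cj t (UU V Q Q') = UU V Q Q' ∧ cj t (cj n₀ (UU V Q Q')) = cj n₀ (UU V Q Q') := by
  rw [TT, mem_inf, mem_inf, mem_norm_iff, mem_norm_iff]

section

variable {T : Quad k F} {S : Sylow 2 G} {V R Q Q' : Subgroup G} {v : k → F → k → G} {p p' : G → F}
    {Φ : Type*} [AddCommGroup Φ] [Module F Φ] {φ χ : G → Φ} {hm : Φ → Φ → F}
    {W : Type*} [AddCommGroup W] [Module F W] {w : G → W} {g : W → W → F} {f₀ : W}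
    {ι : Φ →ₗ[F] W} (D : Out T V R Q Q' v p φ χ hm w g f₀ ι) (I : GIn T S V R Q Q' v p p')
    {x₀ : Φ} (hx : ∀ x : Φ, ∃ s : F, x = s • x₀) (hne : x₀ ≠ 0) {n₀ : G} (N : Sw D n₀)

include I hx N in
/-- an element of `L` which stabilises `F e₀` is `u t` with `t` diagonal -/
theorem exists_ut [CharP k 2] (Fd : Fld T V R Q Q' v p φ χ) {c : G} (hc : c ∈ LL V R Q Q') {a : F}
    (ha : D.rho c (w (v 0 1 0)) = a • w (v 0 1 0)) : ∃ u ∈ UU V Q Q', ∃ b : F,
      D.rho (u⁻¹ * c) (w (v 0 1 0)) = a • w (v 0 1 0) ∧ D.rho (u⁻¹ * c) f₀ = b • f₀ := by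
  have _ := N
  have hcN := LL_NR D I hc
  have hcL := LL_le_Lin D I hc
  have ha0 : a ≠ 0 := by
    rintro rfl
    rw [zero_smul] at ha
    apply D.e_ne
    rw [← D.rho_inv_left I hcN (w (v 0 1 0)), ha, D.rho_zero I (inv_mem hcN)]
  have h1 : g (D.rho c f₀) (w (v 0 1 0)) * T.sg a = 1 := by
    have h2 := g_rho D I hcL f₀ (w (v 0 1 0))
    rw [ha, D.g_smul_right, D.g_fe] at h2
    rw [mul_comm]; exact h2
  have h6 : g (D.rho c f₀) (D.rho c f₀) = 0 := by rw [g_rho D I hcL, D.g_ff]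
  have h7 : D.rho c f₀ ≠ 0 := by
    intro h0
    rw [h0, D.g_zero_left, zero_mul] at h1
    exact zero_ne_one h1
  rcases point D hx h7 h6 with ⟨s, -, hs⟩ | ⟨y, r, b, -, hr, hb, hy⟩
  · exfalso
    rw [hs, D.g_smul, D.g_ee, mul_zero, zero_mul] at h1
    exact zero_ne_one h1
  · obtain ⟨u, hu, hju⟩ := exists_jm D I Fd hr
    have huU : u ∈ UU V Q Q' := NN_le_UU hu
    have huN := UU_NR I huU
    have huLin := UU_le_Lin D I huU
    refine ⟨u, huU, b, ?_, ?_⟩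
    · have e8 : D.rho u (w (v 0 1 0)) = w (v 0 1 0) := by rw [hju, jm_e D]
      have e9 : D.rho u⁻¹ (w (v 0 1 0)) = w (v 0 1 0) := by
        have := D.rho_inv_left I huN (w (v 0 1 0))
        rwa [e8] at this
      rw [D.rho_mul I (inv_mem huN) hcN, ha, rho_smul D I (inv_mem huLin), e9]
    · have e9 : D.rho u f₀ = f₀ + ι y + r • w (v 0 1 0) := by rw [hju, jm_f D]
      rw [D.rho_mul I (inv_mem huN) hcN, hy, ← e9, rho_smul D I (inv_mem huLin), D.rho_inv_left I huN]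

include I hx hne N in
/-- the stabiliser of `e₀` in `L` is `UU` -/
theorem mem_UU_of_e [CharP k 2] (Fd : Fld T V R Q Q' v p φ χ) {c : G} (hc : c ∈ LL V R Q Q')
    (h : D.rho c (w (v 0 1 0)) = w (v 0 1 0)) : c ∈ UU V Q Q' := by
  obtain ⟨u, hu, b, h1, h2⟩ := exists_ut D I hx N Fd hc (a := 1) (by rw [h, one_smul])
  have hL : u⁻¹ * c ∈ LL V R Q Q' := mul_mem (inv_mem (UU_le_LL V R Q Q' hu)) hc
  have hLin := LL_le_Lin D I hL
  obtain ⟨-, hb, h3⟩ := diag_of D I hx hne hLin (dt_LL D I hL) h1 h2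
  have h4 : u⁻¹ * c ∈ Q := by
    apply D.mem_Q_of_rho I (LL_NR D I hL)
    intro m
    obtain ⟨x, y, z, rfl⟩ := D.span m
    rw [D.rho_add I (LL_NR D I hL), D.rho_add I (LL_NR D I hL), rho_smul D I hLin, rho_smul D I hLin, h1, h2,
      h3, hb, map_one, inv_one, mul_one, one_smul, one_smul, one_smul]
  have h5 : c = u * (u⁻¹ * c) := by group
  rw [h5]
  exact mul_mem hu (Q_le_UU h4)

include I hx hne N in
/-- the elements of `TT` are diagonal -/
theorem TT_diag [CharP k 2] (Fd : Fld T V R Q Q' v p φ χ) {t : G} (ht : t ∈ TT V R Q Q' n₀) :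
    ∃ a : F, a ≠ 0 ∧ D.rho t (w (v 0 1 0)) = a • w (v 0 1 0) ∧ D.rho t f₀ = (T.sg a)⁻¹ • f₀ ∧
      ∀ x, D.rho t (ι x) = (T.sg a * a⁻¹) • ι x := by
  obtain ⟨h1, h2, h3⟩ := mem_TT.1 ht
  have hN := LL_NR D I h1
  obtain ⟨a, ha⟩ := stab_of_norm D I Fd hN h2
  obtain ⟨b, hb⟩ := stab_f D I N Fd hN h3
  obtain ⟨ha0, hb', h4⟩ := diag_of D I hx hne (LL_le_Lin D I h1) (dt_LL D I h1) ha hb
  exact ⟨a, ha0, ha, by rw [hb, hb'], h4⟩

include I N in
/-- a diagonal element of `L` is in `TT` -/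
theorem mem_TT_of [CharP k 2] {t : G} (ht : t ∈ LL V R Q Q') {a b : F}
    (ha : D.rho t (w (v 0 1 0)) = a • w (v 0 1 0)) (hb : D.rho t f₀ = b • f₀) : t ∈ TT V R Q Q' n₀ := by
  have hN := LL_NR D I ht
  exact mem_TT.2 ⟨ht, norm_UU D I hN ⟨a, ha⟩, cj_of_f D I N hN ⟨b, hb⟩⟩

include I N in
theorem Q_le_TT [CharP k 2] : Q ≤ TT V R Q Q' n₀ := by
  intro y hy
  exact mem_TT_of D I N (UU_le_LL V R Q Q' (Q_le_UU hy)) (a := 1) (b := 1) (by rw [D.rho_Q I hy, one_smul])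
    (by rw [D.rho_Q I hy, one_smul])

include I hx hne N in
theorem mem_Q_of_TT [CharP k 2] (Fd : Fld T V R Q Q' v p φ χ) {t : G} (ht : t ∈ TT V R Q Q' n₀)
    (h : D.rho t (w (v 0 1 0)) = w (v 0 1 0)) : t ∈ Q := by
  obtain ⟨a, ha0, ha, hb, hc⟩ := TT_diag D I hx hne N Fd ht
  have hL := (mem_TT.1 ht).1
  have hLin := LL_le_Lin D I hL
  have h1 : a = 1 := by
    have h2 : g (a • w (v 0 1 0)) f₀ = g (w (v 0 1 0)) f₀ := by rw [← ha, h]
    rwa [D.g_smul, D.g_ef, mul_one] at h2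
  subst h1
  apply D.mem_Q_of_rho I (LL_NR D I hL)
  intro m
  obtain ⟨x, y, z, rfl⟩ := D.span m
  rw [D.rho_add I (LL_NR D I hL), D.rho_add I (LL_NR D I hL), rho_smul D I hLin, rho_smul D I hLin, ha, hb,
    hc, map_one, inv_one, mul_one, one_smul, one_smul, one_smul]

/-- the properties of the torus -/
structure Tor (D : Out T V R Q Q' v p φ χ hm w g f₀ ι) (n₀ : G) (A : Subgroup G) : Prop where
  le : A ≤ TT V R Q Q' n₀
  odd : Odd (Nat.card A)
  inf : ∀ a ∈ A, a ∈ Q → a = 1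
  fac : ∀ t ∈ TT V R Q Q' n₀, ∃ q ∈ Q, ∃ a ∈ A, t = q * a

include I hx hne N in
theorem exists_A [CharP k 2] [Finite G] (Fd : Fld T V R Q Q' v p φ χ) : ∃ A, Tor D n₀ A := by
  have : Fact (Nat.Prime 2) := ⟨Nat.prime_two⟩
  have hF : CharP F 2 := Quad.charF k F
  have hQT : Q ≤ TT V R Q Q' n₀ := Q_le_TT D I N
  have hnor : (Q.subgroupOf (TT V R Q Q' n₀)).Normal := by
    constructor
    intro y hy t
    rw [mem_subgroupOf] at hy ⊢
    exact I.nor t (LL_NR D I (mem_TT.1 t.2).1) y hy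
  have hodd : ¬ 2 ∣ (Q.subgroupOf (TT V R Q Q' n₀)).index := by
    intro hdvd
    rw [Subgroup.index] at hdvd
    obtain ⟨x, hx2⟩ := exists_prime_orderOf_dvd_card' (G := TT V R Q Q' n₀ ⧸ Q.subgroupOf (TT V R Q Q' n₀)) 2 hdvd
    obtain ⟨t, rfl⟩ := QuotientGroup.mk_surjective x
    have h1 : ((t : TT V R Q Q' n₀ ⧸ Q.subgroupOf (TT V R Q Q' n₀))) ^ 2 = 1 := by
      rw [← hx2]; exact pow_orderOf_eq_one _
    have h2 : (t : TT V R Q Q' n₀ ⧸ Q.subgroupOf (TT V R Q Q' n₀)) ≠ 1 := by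
      intro h
      rw [h, orderOf_one] at hx2
      exact absurd hx2 (by norm_num)
    rw [← QuotientGroup.mk_pow, QuotientGroup.eq_one_iff, mem_subgroupOf] at h1
    rw [Ne, QuotientGroup.eq_one_iff, mem_subgroupOf] at h2
    apply h2
    obtain ⟨a, ha0, ha, hb, hc⟩ := TT_diag D I hx hne N Fd t.2
    have htN := LL_NR D I (mem_TT.1 t.2).1
    have htL := LL_le_Lin D I (mem_TT.1 t.2).1
    have h3 : D.rho ((t : G) ^ 2) (w (v 0 1 0)) = w (v 0 1 0) := D.rho_Q I h1 _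
    rw [pow_two, D.rho_mul I htN htN, ha, rho_smul D I htL, ha, smul_smul] at h3
    have h4 : a * a = 1 := by
      have h5 := congrArg (fun m => g m f₀) h3
      simp only [D.g_smul, D.g_ef, mul_one] at h5
      exact h5
    have h5 : a = 1 := eq_one_of_pow (m := 1) (by rw [pow_one, pow_two, h4])
    apply mem_Q_of_TT D I hx hne N Fd t.2
    rw [ha, h5, one_smul]
  have hodd' : Odd (Q.subgroupOf (TT V R Q Q' n₀)).index := Nat.odd_iff.2 (by omega)
  have hcop : (Nat.card (Q.subgroupOf (TT V R Q Q' n₀))).Coprime (Q.subgroupOf (TT V R Q Q' n₀)).index := by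
    have hp : IsPGroup 2 (Q.subgroupOf (TT V R Q Q' n₀)) := by
      intro x
      obtain ⟨m, hm⟩ := I.Q_two ⟨x.1.1, mem_subgroupOf.1 x.2⟩
      refine ⟨m, ?_⟩
      apply Subtype.ext
      apply Subtype.ext
      exact congrArg (fun z : Q => (z : G)) hm
    obtain ⟨m, hm⟩ := (IsPGroup.iff_card (p := 2)).1 hp
    rw [hm]
    exact Nat.Coprime.pow_left m (Nat.coprime_two_left.2 hodd')
  obtain ⟨H, hH⟩ := Subgroup.exists_right_complement'_of_coprime hcop
  refine ⟨H.map (TT V R Q Q' n₀).subtype, ?_, ?_, ?_, ?_⟩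
  · exact map_subtype_le H
  · have h1 : Nat.card (H.map (TT V R Q Q' n₀).subtype) = Nat.card H :=
      Nat.card_congr (H.equivMapOfInjective _ (Subtype.val_injective)).toEquiv.symm
    rw [h1, ← hH.symm.index_eq_card]
    exact hodd'
  · rintro _ ⟨a, ha, rfl⟩ haQ
    have h1 := hH.disjoint.le_bot (mem_inf.2 ⟨mem_subgroupOf.2 haQ, ha⟩)
    rw [mem_bot] at h1
    rw [h1]; rfl
  · intro t ht
    obtain ⟨⟨q, a⟩, h1⟩ := hH.2 ⟨t, ht⟩
    refine ⟨q.1.1, mem_subgroupOf.1 q.2, a.1.1, ⟨a.1, a.2, rfl⟩, ?_⟩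
    exact (congrArg (fun z : TT V R Q Q' n₀ => (z : G)) h1).symm

variable {A : Subgroup G} (HA : Tor D n₀ A)

include HA in
theorem A_LL : A ≤ LL V R Q Q' := fun _ ha => (mem_TT.1 (HA.le ha)).1

include HA in
theorem A_norm : A ≤ normalizer (UU V Q Q' : Set G) := fun _ ha => mem_norm_iff.2 (mem_TT.1 (HA.le ha)).2.1

include I hx hne N HA in
theorem A_comm [CharP k 2] (Fd : Fld T V R Q Q' v p φ χ) : ∀ a ∈ A, ∀ b ∈ A, a * b = b * a := by
  intro a ha b hb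
  have hcA : a * b * a⁻¹ * b⁻¹ ∈ A := mul_mem (mul_mem (mul_mem ha hb) (inv_mem ha)) (inv_mem hb)
  have haL := A_LL D HA ha
  have hbL := A_LL D HA hb
  have haN := LL_NR D I haL
  have hbN := LL_NR D I hbL
  obtain ⟨α, hα0, hα, -⟩ := TT_diag D I hx hne N Fd (HA.le ha)
  obtain ⟨β, hβ0, hβ, -⟩ := TT_diag D I hx hne N Fd (HA.le hb)
  have h1 : D.rho (a * b) (w (v 0 1 0)) = D.rho (b * a) (w (v 0 1 0)) := by
    rw [D.rho_mul I haN hbN, D.rho_mul I hbN haN, hα, hβ, rho_smul D I (LL_le_Lin D I haL),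
      rho_smul D I (LL_le_Lin D I hbL), hα, hβ, smul_smul, smul_smul, mul_comm]
  have h2 : D.rho ((b * a)⁻¹ * (a * b)) (w (v 0 1 0)) = w (v 0 1 0) := by
    rw [D.rho_mul I (inv_mem (mul_mem hbN haN)) (mul_mem haN hbN), h1, D.rho_inv_left I (mul_mem hbN haN)]
  have hm : (b * a)⁻¹ * (a * b) ∈ A := mul_mem (inv_mem (mul_mem hb ha)) (mul_mem ha hb)
  have h3 := HA.inf _ hm (mem_Q_of_TT D I hx hne N Fd (HA.le hm) h2)
  exact (inv_mul_eq_one.1 h3).symm

include I hx hne N HA in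
/-- every weight occurs -/
theorem exists_a [CharP k 2] (Fd : Fld T V R Q Q' v p φ χ) {c : F} (hc : c ≠ 0) : ∃ a ∈ A,
    D.rho a (w (v 0 1 0)) = c • w (v 0 1 0) ∧ D.rho a f₀ = (T.sg c)⁻¹ • f₀ ∧
      ∀ x, D.rho a (ι x) = (T.sg c * c⁻¹) • ι x := by
  obtain ⟨t, htL, h1, h2, h3⟩ := exists_tor D I hx hne N Fd hc
  obtain ⟨q, hq, a, ha, rfl⟩ := HA.fac t (mem_TT_of D I N htL h1 h2)
  have haN := LL_NR D I (A_LL D HA ha)
  have h4 : ∀ m, D.rho (q * a) m = D.rho a m := by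
    intro m
    rw [D.rho_mul I (I.Q_NR hq) haN, D.rho_Q I hq]
  refine ⟨a, ha, ?_, ?_, ?_⟩
  · rw [← h4, h1]
  · rw [← h4, h2]
  · intro x
    rw [← h4, h3]

include I hx hne N HA in
/-- `N_L(UU) = UU A` -/
theorem norm_le [CharP k 2] (Fd : Fld T V R Q Q' v p φ χ) {c : G} (hc : c ∈ LL V R Q Q')
    (h : cj c (UU V Q Q') = UU V Q Q') : c ∈ UU V Q Q' ⊔ A := by
  obtain ⟨a, ha⟩ := stab_of_norm D I Fd (LL_NR D I hc) h
  obtain ⟨u, hu, b, h1, h2⟩ := exists_ut D I hx N Fd hc ha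
  have hL : u⁻¹ * c ∈ LL V R Q Q' := mul_mem (inv_mem (UU_le_LL V R Q Q' hu)) hc
  obtain ⟨q, hq, a', ha', e⟩ := HA.fac _ (mem_TT_of D I N hL h1 h2)
  have e2 : c = u * q * a' := by rw [mul_assoc, ← e]; group
  rw [e2]
  exact mul_mem (mem_sup_left (mul_mem hu (Q_le_UU hq))) (mem_sup_right ha')

include I hx hne N in
/-- `UU` is a Sylow subgroup of `L` -/
theorem sylow_LL [CharP k 2] [Finite G] (Fd : Fld T V R Q Q' v p φ χ) : ∀ P ≤ LL V R Q Q', IsPGroup 2 P →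
    UU V Q Q' ≤ P → P ≤ UU V Q Q' := by
  intro P hPL hP hU
  have hF : CharP F 2 := Quad.charF k F
  by_contra hcon
  obtain ⟨x, hxP, hxU, hn⟩ := exists_norm_of_lt hP hU hcon
  have hxL := hPL hxP
  have hxN := LL_NR D I hxL
  obtain ⟨a, ha⟩ := stab_of_norm D I Fd hxN hn
  apply hxU
  apply mem_UU_of_e D I hx hne N Fd hxL
  obtain ⟨m, hm⟩ := hP ⟨x, hxP⟩
  have hm' : x ^ 2 ^ m = 1 := congrArg (fun z : P => (z : G)) hm
  have key : ∀ j : ℕ, D.rho (x ^ j) (w (v 0 1 0)) = a ^ j • w (v 0 1 0) := by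
    intro j
    induction j with
    | zero => rw [pow_zero, pow_zero, D.rho_one I, one_smul]
    | succ j ih =>
      rw [pow_succ, D.rho_mul I (pow_mem hxN j) hxN, ha, rho_smul D I (pow_mem (LL_le_Lin D I hxL) j), ih,
        smul_smul, pow_succ, mul_comm]
  have h1 := key (2 ^ m)
  rw [hm', D.rho_one I] at h1
  have h2 : a ^ 2 ^ m = 1 := by
    have h5 := congrArg (fun m => g m f₀) h1
    simp only [D.g_smul, D.g_ef, mul_one] at h5
    exact h5.symm
  rw [ha, eq_one_of_pow h2, one_smul]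

end

end Cfsg.Agent.RankTwoClose.UFive.LSide

end

section


/-!
# `U₅(q)`: the side `L` from THEOREM UNI, part 5: the remaining fields of `QIn`

`comm_Q`, `sq_Q`, `LR`, `SL`, `US`, `opp`, `irr`, `cD`, `ruling`, `cyc`, `cent`.
-/

set_option autoImplicit false
set_option linter.unusedSectionVars false

open Subgroup

namespace Cfsg.Agent.RankTwoClose.UFive.LSide

open Cfsg.Agent.Omega.NOne.SU
open Cfsg.Agent.RankTwoClose.UFour (cj cj_mul cj_inv_cj cj_cj_inv cj_one mem_norm_iff cj_eq_of_mem mem_cj)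

variable {G : Type*} [Group G] {k F : Type*} [Field k] [Field F] [Algebra k F]

section

variable {T : Quad k F} {S : Sylow 2 G} {V R Q Q' : Subgroup G} {v : k → F → k → G} {p p' : G → F}
    {Φ : Type*} [AddCommGroup Φ] [Module F Φ] {φ χ : G → Φ} {hm : Φ → Φ → F}
    {W : Type*} [AddCommGroup W] [Module F W] {w : G → W} {g : W → W → F} {f₀ : W}
    {ι : Φ →ₗ[F] W} (D : Out T V R Q Q' v p φ χ hm w g f₀ ι) (I : GIn T S V R Q Q' v p p')
    {x₀ : Φ} (hx : ∀ x : Φ, ∃ s : F, x = s • x₀) (hne : x₀ ≠ 0) {n₀ : G} (N : Sw D n₀)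

/-! ### The group `Q` -/

include D I in
theorem comm_Q [CharP k 2] : ⁅Q, Q⁆ = R := by
  have := T.fink
  apply le_antisymm
  · rw [commutator_le]
    intro x hx y hy
    rw [commutatorElement_def, D.comm x hx y hy]
    exact I.v_R _
  · intro r hr
    obtain ⟨a, rfl⟩ := I.mem_R.1 hr
    obtain ⟨θ, hθ⟩ := T.exists_tr_one
    obtain ⟨y, hyQ, hy⟩ := D.w_surj ((a • θ) • f₀)
    have h1 := D.comm (v 0 1 0) (I.E_le 0 1) y hyQ
    rw [hy, D.g_smul_right, D.g_ef, mul_one, T.tr_sg, map_smul, hθ, smul_eq_mul, mul_one] at h1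
    rw [← h1, ← commutatorElement_def]
    exact commutator_mem_commutator (I.E_le 0 1) hyQ

include D in
theorem sq_Q [CharP k 2] : ∀ x ∈ Q, x * x ∈ R := by
  intro x hx
  rw [← D.w_eq _ (mul_mem hx hx), D.w_mul x hx x hx, two_W D]

include D I in
theorem LR [CharP k 2] : ∀ l ∈ LL V R Q Q', ∀ z ∈ R, l * z = z * l := by
  intro l hl z hz
  exact (mem_centralizer_iff.1 (LL_CR D I hl) z hz).symm

include I in
theorem SL : ∀ s ∈ S, ∀ l ∈ LL V R Q Q', s * l * s⁻¹ ∈ LL V R Q Q' := by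
  intro s hs l hl
  exact conj_LL (I.S_R hs) hl

include D I in
theorem US [CharP k 2] : UU V Q Q' ≤ S := by
  have h1 : (S : Subgroup G) ≤ normalizer (UU V Q Q' : Set G) := by
    intro s hs
    exact mem_norm_iff.2 (norm_of_NV D I (I.S_R hs) (I.S_V hs))
  have h2 : IsPGroup 2 ((S : Subgroup G) ⊔ UU V Q Q' : Subgroup G) :=
    IsPGroup.to_sup_of_normal_right' S.isPGroup' (UU_two D I) h1
  have h3 := S.is_maximal' h2 le_sup_left
  intro u hu
  have : u ∈ (S : Subgroup G) ⊔ UU V Q Q' := mem_sup_right hu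
  rwa [h3] at this

include D I in
/-- an element of `L` normalising `UU` normalises `V` -/
theorem LNV [CharP k 2] (Fd : Fld T V R Q Q' v p φ χ) : ∀ c ∈ LL V R Q Q', cj c (UU V Q Q') = UU V Q Q' →
    cj c V = V := by
  intro c hc h
  have hN := LL_NR D I hc
  obtain ⟨s, hs⟩ := stab_of_norm D I Fd hN h
  apply mem_norm_iff.1
  apply D.stab c hN
  exact ⟨s, by rw [← hs, D.rho_w I hN (I.E_le _ _)]⟩

include I N in
theorem opp [CharP k 2] : ∀ x ∈ V ⊓ Q, (∀ y ∈ cj n₀ (V ⊓ Q), x * y = y * x) → x ∈ R := by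
  intro x hx h
  obtain ⟨hxV, hxQ⟩ := mem_inf.1 hx
  obtain ⟨a, b, d, rfl⟩ := I.v_surj x hxV
  obtain rfl := I.V_Q a b d hxQ
  have hnN := sw_NR D I N
  have hnL := LL_le_Lin D I N.mem
  have hb : b = 0 := by
    apply T.tr_nondeg
    intro c
    have hy : v 0 (T.sg c) 0 ∈ V ⊓ Q := mem_inf.2 ⟨I.v_mem _ _ _, I.E_le _ _⟩
    have h1 := h _ ⟨_, hy, rfl⟩
    change v a b 0 * (n₀ * v 0 (T.sg c) 0 * n₀⁻¹) = (n₀ * v 0 (T.sg c) 0 * n₀⁻¹) * v a b 0 at h1
    have hyQ : n₀ * v 0 (T.sg c) 0 * n₀⁻¹ ∈ Q := I.nor n₀ hnN _ (I.E_le _ _)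
    have h2 := D.comm _ hxQ _ hyQ
    have h3 : v a b 0 * (n₀ * v 0 (T.sg c) 0 * n₀⁻¹) * (v a b 0)⁻¹ * (n₀ * v 0 (T.sg c) 0 * n₀⁻¹)⁻¹ = 1 := by
      rw [h1]; group
    have hw1 : w (v a b 0) = b • w (v 0 1 0) := D.w_v I a b
    have hw2 : w (v 0 (T.sg c) 0) = T.sg c • w (v 0 1 0) := D.w_v I 0 (T.sg c)
    rw [h3, ← D.rho_w I hnN (I.E_le _ _), hw1, hw2, rho_smul D I hnL, N.e, D.g_smul, D.g_smul_right,
      D.g_ef, mul_one, T.sg_sg] at h2
    have h4 := (I.v_inj _ _ _ h2.symm).1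
    rw [mul_comm]
    exact h4
  rw [hb]
  exact I.v_R a

/-! ### Irreducibility -/

include I hx hne N in
theorem irr [CharP k 2] (Fd : Fld T V R Q Q' v p φ χ) : ∀ M ≤ Q,
    (∀ l ∈ LL V R Q Q', ∀ x ∈ M, l * x * l⁻¹ ∈ M) → M ≤ R ∨ Q ≤ M ⊔ R := by
  intro M hMQ hM
  by_cases hMR : M ≤ R
  · exact Or.inl hMR
  right
  obtain ⟨x, hxM, hxR⟩ := SetLike.not_le_iff_exists.1 hMR
  have hadd : ∀ m m', (∃ x ∈ M, w x = m) → (∃ x ∈ M, w x = m') → ∃ x ∈ M, w x = m + m' := by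
    rintro _ _ ⟨x, hx, rfl⟩ ⟨y, hy, rfl⟩
    exact ⟨x * y, mul_mem hx hy, D.w_mul x (hMQ hx) y (hMQ hy)⟩
  have hrho : ∀ l ∈ LL V R Q Q', ∀ m, (∃ x ∈ M, w x = m) → ∃ x ∈ M, w x = D.rho l m := by
    rintro l hl _ ⟨x, hx, rfl⟩
    exact ⟨_, hM l hl x hx, (D.rho_w I (LL_NR D I hl) (hMQ hx)).symm⟩
  have hdiff : ∀ m m', (∃ x ∈ M, w x = m) → (∃ x ∈ M, w x = m + m') → ∃ x ∈ M, w x = m' := by
    intro m m' h1 h2
    have h3 := hadd _ _ h1 h2
    rwa [← add_assoc, two_W D, zero_add] at h3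
  -- a multiple of `e₀`
  have hstep : ∃ s : F, s ≠ 0 ∧ ∃ x ∈ M, w x = s • w (v 0 1 0) := by
    have hm0 : w x ≠ 0 := fun h => hxR ((D.w_eq x (hMQ hxM)).1 h)
    have hmM : ∃ y ∈ M, w y = w x := ⟨x, hxM, rfl⟩
    by_cases hb : g (w x) (w (v 0 1 0)) = 0
    · obtain ⟨x', hd⟩ := D.decomp (w x)
      rw [hb, zero_smul, add_zero] at hd
      by_cases hx' : x' = 0
      · rw [hx', map_zero, add_zero] at hd
        refine ⟨g (w x) f₀, ?_, x, hxM, hd⟩
        intro h0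
        rw [h0, zero_smul] at hd
        exact hm0 hd
      · obtain ⟨y, hy⟩ : ∃ y, hm x' y ≠ 0 := by
          by_contra hcon
          push Not at hcon
          exact hx' (D.hm_nondeg x' hcon)
        obtain ⟨r, hr⟩ := exists_r D y
        obtain ⟨u, hu, hju⟩ := exists_jm D I Fd hr
        have h1 := hrho u (UU_le_LL V R Q Q' (NN_le_UU hu)) _ hmM
        rw [hju, jm, hb, zero_smul, add_zero, mul_zero, add_zero] at h1
        have h2 : g (w x) (ι y) = hm x' y := by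
          rw [hd, D.g_add, D.g_smul, D.g_eι, D.g_ιι, mul_zero, zero_add]
        rw [h2] at h1
        exact ⟨_, hy, hdiff _ _ hmM h1⟩
    · have h1 := hrho _ (UU_le_LL V R Q Q' (V_le_UU I (I.v_mem 0 0 1))) _ hmM
      rw [D.rho_tv I, map_one, one_mul] at h1
      exact ⟨_, hb, hdiff _ _ hmM h1⟩
  obtain ⟨s, hs0, hs⟩ := hstep
  have he : ∀ c : F, ∃ x ∈ M, w x = c • w (v 0 1 0) := by
    intro c
    by_cases hc : c = 0
    · exact ⟨1, one_mem _, by rw [D.w_one, hc, zero_smul]⟩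
    · obtain ⟨t, htL, h1, -, -⟩ := exists_tor D I hx hne N Fd (div_ne_zero hc hs0)
      have h2 := hrho t htL _ hs
      rwa [rho_smul D I (LL_le_Lin D I htL), h1, smul_smul, mul_div_cancel₀ _ hs0] at h2
  have hf : ∀ c : F, ∃ x ∈ M, w x = c • f₀ := by
    intro c
    have h2 := hrho n₀ N.mem _ (he c)
    rwa [rho_smul D I (LL_le_Lin D I N.mem), N.e] at h2
  have hi : ∀ y : Φ, ∃ x ∈ M, w x = ι y := by
    intro y
    obtain ⟨r, hr⟩ := exists_r D y
    obtain ⟨u, hu, hju⟩ := exists_jm D I Fd hr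
    have h0 := hf 1
    rw [one_smul] at h0
    have h1 := hrho u (UU_le_LL V R Q Q' (NN_le_UU hu)) _ h0
    rw [hju, jm_f D, add_assoc] at h1
    have h2 := hdiff _ _ h0 h1
    rw [add_comm] at h2
    exact hdiff _ _ (he r) h2
  intro y hy
  obtain ⟨a, x', b, hd⟩ := D.span (w y)
  obtain ⟨z, hz, hzw⟩ := hadd _ _ (hadd _ _ (he a) (hi x')) (hf b)
  rw [← hd] at hzw
  have h1 : y * z⁻¹ ∈ R := (D.w_eq_iff hy (hMQ hz)).1 hzw.symm
  have h2 : y = (y * z⁻¹) * z := by group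
  rw [h2]
  exact mul_mem (mem_sup_right h1) (mem_sup_left hz)

/-! ### `cD` and `ruling` -/

include I N in
theorem mem_T [CharP k 2] {y : G} (hy : y ∈ Q) {x : Φ} (h : w y = ι x) :
    y ∈ (Q ⊓ centralizer (V : Set G)) ⊓ cj n₀ (Q ⊓ centralizer (V : Set G)) := by
  have hnN := sw_NR D I N
  refine mem_inf.2 ⟨mem_inf.2 ⟨hy, ?_⟩, mem_cj.2 (mem_inf.2 ⟨I.nor_inv hnN hy, ?_⟩)⟩
  · rw [I.mem_CV hy, D.p_eq y hy, h, D.g_ιe]
  · rw [I.mem_CV (I.nor_inv hnN hy), D.p_eq _ (I.nor_inv hnN hy)]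
    have h1 : w (n₀⁻¹ * y * n₀) = ι x := by
      have h2 : D.rho n₀⁻¹ (w y) = w (n₀⁻¹ * y * n₀) := by
        rw [D.rho_w I (inv_mem hnN) hy, inv_inv]
      rw [← h2, h, sw_inv D I N, N.i]
    rw [h1, D.g_ιe]

include I N in
theorem cD [CharP k 2] [Finite G] : Q.relIndex (UU V Q Q') ≤
    Nat.card ↥((Q ⊓ centralizer (V : Set G)) ⊓ cj n₀ (Q ⊓ centralizer (V : Set G))) := by
  classical
  -- the parameters of an element of `UU`
  have h1 : ∀ u : UU V Q Q', ∃ xr : Φ × F, xr.2 + T.sg xr.2 = hm xr.1 xr.1 ∧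
      ∀ m, D.rho (u : G) m = jm g (w (v 0 1 0)) ι xr.1 xr.2 m := by
    intro u
    obtain ⟨x, r, hr, h⟩ := rho_UU D I u.2
    exact ⟨(x, r), hr, h⟩
  choose xr hxr hrho using h1
  have h2 : ∀ x : Φ, ∃ y ∈ Q, w y = ι x := fun x => D.w_surj _
  choose y hyQ hyw using h2
  have h3 : ∀ x : Φ, ∃ r : F, r + T.sg r = hm x x := fun x => exists_r D x
  choose r0 hr0 using h3
  have h4 : ∀ u : UU V Q Q', ∃ d : k, algebraMap k F d = (xr u).2 + r0 (xr u).1 := by
    intro u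
    apply T.fix
    have e1 := hxr u
    have e2 := hr0 (xr u).1
    rw [← e2] at e1
    rw [map_add]
    have h3 := T.two_F (T.sg (xr u).2)
    have h4 := T.two_F (r0 (xr u).1)
    linear_combination (-1 : F) * e1 + h3 - h4
  choose d hd using h4
  let Fn : UU V Q Q' → ↥((Q ⊓ centralizer (V : Set G)) ⊓ cj n₀ (Q ⊓ centralizer (V : Set G))) := fun u =>
    ⟨y (xr u).1 * v (d u) 0 0, mem_T D I N (mul_mem (hyQ _) (I.R_Q (I.v_R _))) (x := (xr u).1) (by
      rw [D.w_mul _ (hyQ _) _ (I.R_Q (I.v_R _)), (D.w_eq _ (I.R_Q (I.v_R _))).2 (I.v_R _), add_zero, hyw])⟩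
  have hFn : ∀ u u' : UU V Q Q', Fn u = Fn u' → (u : G)⁻¹ * u' ∈ Q := by
    intro u u' h
    have h5 : y (xr u).1 * v (d u) 0 0 = y (xr u').1 * v (d u') 0 0 := congrArg Subtype.val h
    have h6 : (xr u).1 = (xr u').1 := by
      have h7 := congrArg w h5
      rw [D.w_mul _ (hyQ _) _ (I.R_Q (I.v_R _)), (D.w_eq _ (I.R_Q (I.v_R _))).2 (I.v_R _),
        D.w_mul _ (hyQ _) _ (I.R_Q (I.v_R _)), (D.w_eq _ (I.R_Q (I.v_R _))).2 (I.v_R _), add_zero, add_zero,
        hyw, hyw] at h7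
      have h8 : ι ((xr u).1 - (xr u').1) = 0 := by rw [map_sub, h7, sub_self]
      exact sub_eq_zero.1 (D.ι_inj h8)
    rw [h6] at h5
    have h7 : d u = d u' := (I.v_ext (mul_left_cancel h5)).1
    have h8 : (xr u).2 = (xr u').2 := by
      have e1 := hd u
      have e2 := hd u'
      rw [h7, h6] at e1
      exact add_right_cancel (e1.symm.trans e2)
    have huN := UU_NR I u.2
    have hu'N := UU_NR I u'.2
    apply D.mem_Q_of_rho I (mul_mem (inv_mem huN) hu'N)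
    intro m
    rw [D.rho_mul I (inv_mem huN) hu'N, hrho u', ← h6, ← h8, ← hrho u, D.rho_inv_left I huN]
  rw [relIndex, Subgroup.index]
  apply Nat.card_le_card_of_injective (fun q : UU V Q Q' ⧸ Q.subgroupOf (UU V Q Q') => Fn (Quotient.out q))
  intro q q' h
  have h5 := hFn _ _ h
  have h6 : (Quotient.out q)⁻¹ * Quotient.out q' ∈ Q.subgroupOf (UU V Q Q') := mem_subgroupOf.2 h5
  have h7 := QuotientGroup.eq.2 h6
  rwa [QuotientGroup.out_eq', QuotientGroup.out_eq'] at h7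

include I N in
theorem ruling [CharP k 2] : ∀ x ∈ V, x ∉ Q → ∃ y ∈ cj n₀ V, cj (x * y * x) (cj n₀ (UU V Q Q')) = UU V Q Q' := by
  intro x hxV hxQ
  obtain ⟨a, b, d, rfl⟩ := I.v_surj x hxV
  have hd : d ≠ 0 := by
    rintro rfl
    exact hxQ (I.E_le a b)
  have hnN := sw_NR D I N
  have hnL := LL_le_Lin D I N.mem
  have hvN : ∀ a b d, v a b d ∈ normalizer (R : Set G) := fun a b d => I.CR_NR (I.V_CR (I.v_mem a b d))
  refine ⟨n₀ * v 0 0 d⁻¹ * n₀⁻¹, ⟨_, I.v_mem 0 0 d⁻¹, rfl⟩, ?_⟩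
  set y := n₀ * v 0 0 d⁻¹ * n₀⁻¹ with hy
  have hyN : y ∈ normalizer (R : Set G) := mul_mem (mul_mem hnN (hvN _ _ _)) (inv_mem hnN)
  have rx : ∀ m, D.rho (v a b d) m = m + (algebraMap k F d * g m (w (v 0 1 0))) • w (v 0 1 0) := by
    intro m
    have e : v a b d = v a b 0 * v 0 0 d := by rw [I.v_mul, add_zero, add_zero, zero_add]
    rw [e, D.rho_mul I (hvN _ _ _) (hvN _ _ _), D.rho_Q I (I.E_le a b), D.rho_tv I]
  have ry : ∀ m, D.rho y m = m + (algebraMap k F d⁻¹ * g m f₀) • f₀ := rho_tv_sw D I N d⁻¹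
  have hdd : algebraMap k F d⁻¹ * algebraMap k F d = 1 := by
    rw [← map_mul, inv_mul_cancel₀ hd, map_one]
  have e1 : D.rho (v a b d) f₀ = f₀ + algebraMap k F d • w (v 0 1 0) := by rw [rx, D.g_fe, mul_one]
  have e2 : D.rho y (f₀ + algebraMap k F d • w (v 0 1 0)) = algebraMap k F d • w (v 0 1 0) := by
    rw [ry, D.g_add, D.g_ff, D.g_smul, D.g_ef, zero_add, mul_one, hdd, one_smul, add_comm f₀, add_assoc,
      two_W D, add_zero]
  have e3 : D.rho (v a b d) (algebraMap k F d • w (v 0 1 0)) = algebraMap k F d • w (v 0 1 0) := by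
    rw [rx, D.g_smul, D.g_ee, mul_zero, mul_zero, zero_smul, add_zero]
  rw [← cj_mul]
  have hN3 : v a b d * y * v a b d ∈ normalizer (R : Set G) := mul_mem (mul_mem (hvN _ _ _) hyN) (hvN _ _ _)
  apply norm_UU D I (mul_mem hN3 hnN)
  refine ⟨algebraMap k F d, ?_⟩
  rw [D.rho_mul I hN3 hnN, N.e, D.rho_mul I (mul_mem (hvN _ _ _) hyN) (hvN _ _ _), e1,
    D.rho_mul I (hvN _ _ _) hyN, e2, e3]

/-! ### Coordinates, `cyc` and `cent` -/

/-- the vector with the given coordinates -/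
def em (e₀ f₀ : W) (ι : Φ →ₗ[F] W) (x₀ : Φ) (x : F × F × F) : W := x.1 • e₀ + x.2.1 • ι x₀ + x.2.2 • f₀

theorem em_add (x y : F × F × F) : em (w (v 0 1 0)) f₀ ι x₀ (x + y) =
    em (w (v 0 1 0)) f₀ ι x₀ x + em (w (v 0 1 0)) f₀ ι x₀ y := by
  unfold em
  rw [Prod.fst_add, Prod.snd_add, Prod.fst_add, Prod.snd_add, add_smul, add_smul, add_smul]
  abel

include D hne in
theorem em_inj {x y : F × F × F} (h : em (w (v 0 1 0)) f₀ ι x₀ x = em (w (v 0 1 0)) f₀ ι x₀ y) : x = y := by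
  have h1 : x.1 = y.1 := by
    have h2 := congrArg (fun m => g m f₀) h
    simp only [em, D.g_add, D.g_smul, D.g_ef, D.g_ιf, D.g_ff, mul_one, mul_zero, add_zero] at h2
    exact h2
  have h3 : x.2.2 = y.2.2 := by
    have h2 := congrArg (fun m => g m (w (v 0 1 0))) h
    simp only [em, D.g_add, D.g_smul, D.g_ee, D.g_ιe, D.g_fe, mul_one, mul_zero, zero_add] at h2
    exact h2
  have h2 : x.2.1 = y.2.1 := by
    unfold em at h
    rw [h1, h3] at h
    have h4 := add_left_cancel (add_right_cancel h)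
    have h5 : (x.2.1 - y.2.1) • ι x₀ = 0 := by rw [sub_smul, h4, sub_self]
    rcases smul_eq_zero.1 h5 with h | h
    · exact sub_eq_zero.1 h
    · exact absurd (D.ι_inj h) hne
  exact Prod.ext h1 (Prod.ext h2 h3)

include D hx in
theorem em_surj (m : W) : ∃ x : F × F × F, em (w (v 0 1 0)) f₀ ι x₀ x = m := by
  obtain ⟨a, y, b, rfl⟩ := D.span m
  obtain ⟨s, rfl⟩ := hx y
  exact ⟨(a, s, b), by rw [em, map_smul]⟩

/-- the diagonal action in coordinates -/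
theorem rho_em [CharP k 2] {a : G} (ha : a ∈ Lin D I) {α : Fˣ}
    (h1 : D.rho a (w (v 0 1 0)) = (α : F) • w (v 0 1 0)) (h2 : D.rho a f₀ = (T.sg (α : F))⁻¹ • f₀)
    (h3 : ∀ x, D.rho a (ι x) = (T.sg (α : F) * (α : F)⁻¹) • ι x) (x : F × F × F) :
    D.rho a (em (w (v 0 1 0)) f₀ ι x₀ x) = em (w (v 0 1 0)) f₀ ι x₀ (Weights.act (Nat.card k) α x) := by
  have hk := T.fink
  have hN := Lin_NR D I ha
  have hq : 1 ≤ Nat.card k := by have := T.four; omega
  unfold em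
  rw [D.rho_add I hN, D.rho_add I hN, rho_smul D I ha, rho_smul D I ha, rho_smul D I ha, h1, h2, h3,
    smul_smul, smul_smul, smul_smul]
  have e1 : (Weights.act (Nat.card k) α x).1 = x.1 * (α : F) := by rw [mul_comm]; rfl
  have e2 : (Weights.act (Nat.card k) α x).2.1 = x.2.1 * (T.sg (α : F) * (α : F)⁻¹) := by
    change (α : F) ^ (Nat.card k - 1) * x.2.1 = _
    have h5 : T.sg (α : F) * (α : F)⁻¹ = (α : F) ^ (Nat.card k - 1) := by
      rw [T.sg_pow]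
      have h6 : (α : F) ^ Nat.card k = (α : F) ^ (Nat.card k - 1) * (α : F) := by
        rw [← pow_succ, Nat.sub_add_cancel hq]
      rw [h6, mul_inv_cancel_right₀ α.ne_zero]
    rw [h5, mul_comm]
  have e3 : (Weights.act (Nat.card k) α x).2.2 = x.2.2 * (T.sg (α : F))⁻¹ := by
    change ((α⁻¹ : Fˣ) : F) ^ Nat.card k * x.2.2 = _
    rw [T.sg_pow, Units.val_inv_eq_inv_val, inv_pow, mul_comm]
  rw [e1, e2, e3]

variable {A : Subgroup G} (HA : Tor D n₀ A)

include I hx hne N HA in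
theorem exists_a_em [CharP k 2] (Fd : Fld T V R Q Q' v p φ χ) (α : Fˣ) : ∃ a ∈ A, ∀ x : F × F × F,
    D.rho a (em (w (v 0 1 0)) f₀ ι x₀ x) = em (w (v 0 1 0)) f₀ ι x₀ (Weights.act (Nat.card k) α x) := by
  obtain ⟨a, ha, h1, h2, h3⟩ := exists_a D I hx hne N HA Fd α.ne_zero
  exact ⟨a, ha, rho_em D I (LL_le_Lin D I (A_LL D HA ha)) h1 h2 h3⟩

theorem exists_two_pow (k : Type*) [Field k] [Finite k] [CharP k 2] : ∃ m, Nat.card k = 2 ^ m := by
  have := Fintype.ofFinite k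
  obtain ⟨n, -, h⟩ := FiniteField.card k 2
  exact ⟨n, by rw [Nat.card_eq_fintype_card, h]⟩

include I hx hne N HA in
theorem cyc [CharP k 2] (Fd : Fld T V R Q Q' v p φ χ) :
    ∃ z ∈ Q, Q ≤ closure {x | ∃ a ∈ A, x = a * z * a⁻¹} ⊔ R := by
  classical
  have hk := T.fink
  have hFf := T.finF
  have hFi : Fintype F := Fintype.ofFinite F
  have hF : CharP F 2 := Quad.charF k F
  choose co hco using em_surj D hx
  have hco' : ∀ x, co (em (w (v 0 1 0)) f₀ ι x₀ x) = x := fun x => em_inj D hne (hco _)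
  refine Weights.exists_cyc (F := F) (q := Nat.card k) (by rw [← T.card, Nat.card_eq_fintype_card])
    (exists_two_pow k) T.four (fun y => co (w y)) ?_ ?_ ?_ I.R_Q ?_ ?_ ?_
  · intro x hx y hy
    apply em_inj D hne
    rw [hco, em_add, hco, hco, D.w_mul x hx y hy]
  · intro x
    obtain ⟨y, hy, h⟩ := D.w_surj (em (w (v 0 1 0)) f₀ ι x₀ x)
    exact ⟨y, hy, by rw [h, hco']⟩
  · intro x hx h
    rw [← D.w_eq x hx, ← hco (w x), h]
    unfold em
    rw [Prod.fst_zero, Prod.snd_zero, Prod.fst_zero, Prod.snd_zero, zero_smul, zero_smul, zero_smul, add_zero,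
      add_zero]
  · intro a ha x hx
    exact I.nor a (LL_NR D I (A_LL D HA ha)) x hx
  · intro a ha z hz
    have h1 := mem_centralizer_iff.1 (LL_CR D I (A_LL D HA ha)) z hz
    have h2 : a * z * a⁻¹ = z := by rw [← h1]; group
    rwa [h2]
  · intro α
    obtain ⟨a, ha, h⟩ := exists_a_em D I hx hne N HA Fd α
    refine ⟨a, ha, fun y hy => ?_⟩
    apply em_inj D hne
    rw [hco, ← h, hco, D.rho_w I (LL_NR D I (A_LL D HA ha)) hy]

include I hx hne N HA in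
/-- **a 2-element of `N(R) ∩ N(V)` centralising `A` is in `R`** -/
theorem cent [CharP k 2] (Fd : Fld T V R Q Q' v p φ χ) : ∀ s ∈ S, (∀ a ∈ A, a * s = s * a) → s ∈ R := by
  classical
  intro s hs hc
  have hk := T.fink
  have hFf := T.finF
  have hFi : Fintype F := Fintype.ofFinite F
  have hF : CharP F 2 := Quad.charF k F
  have hsN : s ∈ normalizer (R : Set G) := I.S_R hs
  obtain ⟨l, hl⟩ := em_surj D hx (D.rho s (em (w (v 0 1 0)) f₀ ι x₀ (1, 1, 1)))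
  have em0 : em (w (v 0 1 0)) f₀ ι x₀ 0 = 0 := by
    unfold em
    rw [Prod.fst_zero, Prod.snd_zero, Prod.fst_zero, Prod.snd_zero, zero_smul, zero_smul, zero_smul, add_zero,
      add_zero]
  let W₀ : AddSubgroup (F × F × F) :=
    { carrier := {x | D.rho s (em (w (v 0 1 0)) f₀ ι x₀ x) = em (w (v 0 1 0)) f₀ ι x₀ (l * x)}
      add_mem' := by
        intro x y hx hy
        change D.rho s _ = _ at hx
        change D.rho s _ = _ at hy
        change D.rho s _ = _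
        rw [em_add, D.rho_add I hsN, hx, hy, mul_add, em_add]
      zero_mem' := by
        change D.rho s _ = _
        rw [mul_zero, em0, D.rho_zero I hsN]
      neg_mem' := by
        intro x hx
        change D.rho s _ = _ at hx
        change D.rho s _ = _
        have h2 : -x = x := by
          have h3 : x + x = 0 := by
            refine Prod.ext (T.two_F _) (Prod.ext (T.two_F _) (T.two_F _))
          exact neg_eq_of_add_eq_zero_left h3
        rw [h2, hx] }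
  have hW : W₀ = ⊤ := by
    refine Weights.span (q := Nat.card k) (by rw [← T.card, Nat.card_eq_fintype_card]) (exists_two_pow k) T.four
      W₀ ?_ ?_
    · intro α x hx'
      obtain ⟨a, ha, h⟩ := exists_a_em D I hx hne N HA Fd α
      have haN := LL_NR D I (A_LL D HA ha)
      change D.rho s _ = _ at hx'
      change D.rho s _ = _
      rw [← h, ← D.rho_mul I hsN haN, ← hc a ha, D.rho_mul I haN hsN, hx', h]
      congr 1
      refine Prod.ext ?_ (Prod.ext ?_ ?_)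
      · change (α : F) * (l.1 * x.1) = l.1 * ((α : F) * x.1)
        ring
      · change (α : F) ^ (Nat.card k - 1) * (l.2.1 * x.2.1) = l.2.1 * ((α : F) ^ (Nat.card k - 1) * x.2.1)
        ring
      · change ((α⁻¹ : Fˣ) : F) ^ Nat.card k * (l.2.2 * x.2.2) = l.2.2 * (((α⁻¹ : Fˣ) : F) ^ Nat.card k * x.2.2)
        ring
    · change D.rho s _ = _
      rw [← hl]
      congr 1
      exact (mul_one l).symm
  have hdiag : ∀ x : F × F × F, D.rho s (em (w (v 0 1 0)) f₀ ι x₀ x) = em (w (v 0 1 0)) f₀ ι x₀ (l * x) := by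
    intro x
    have : x ∈ W₀ := by rw [hW]; trivial
    exact this
  have hpow : ∀ (j : ℕ) (x : F × F × F), D.rho (s ^ j) (em (w (v 0 1 0)) f₀ ι x₀ x) =
      em (w (v 0 1 0)) f₀ ι x₀ (l ^ j * x) := by
    intro j
    induction j with
    | zero => intro x; rw [pow_zero, pow_zero, D.rho_one I, one_mul]
    | succ j ih => intro x; rw [pow_succ, D.rho_mul I (pow_mem hsN j) hsN, hdiag, ih, ← mul_assoc, ← pow_succ]
  obtain ⟨m, hm⟩ := S.isPGroup' ⟨s, hs⟩
  have hm' : s ^ 2 ^ m = 1 := congrArg (fun z : (S : Subgroup G) => (z : G)) hm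
  have h1 := hpow (2 ^ m) 1
  rw [hm', D.rho_one I, mul_one] at h1
  have h2 := (em_inj D hne h1).symm
  have hl1 : l = 1 := by
    refine Prod.ext ?_ (Prod.ext ?_ ?_)
    · exact eq_one_of_pow (m := m) (by have := congrArg Prod.fst h2; exact this)
    · exact eq_one_of_pow (m := m) (by have := congrArg (fun z => z.2.1) h2; exact this)
    · exact eq_one_of_pow (m := m) (by have := congrArg (fun z => z.2.2) h2; exact this)
  have hsQ : s ∈ Q := by
    apply D.mem_Q_of_rho I hsN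
    intro m
    obtain ⟨x, rfl⟩ := em_surj D hx m
    rw [hdiag, hl1, one_mul]
  -- `w s` is fixed by `A`
  obtain ⟨x, hxs⟩ := em_surj D hx (w s)
  have hfix : ∀ α : Fˣ, Weights.act (Nat.card k) α x = x := by
    intro α
    obtain ⟨a, ha, h⟩ := exists_a_em D I hx hne N HA Fd α
    have haN := LL_NR D I (A_LL D HA ha)
    apply em_inj D hne
    rw [← h, hxs, D.rho_w I haN hsQ]
    have e : a * s * a⁻¹ = s := by rw [hc a ha]; group
    rw [e]
  obtain ⟨θ, hθ⟩ := T.exists_sg_ne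
  have hθ0 : θ ≠ 0 := by
    rintro rfl
    exact hθ (map_zero _)
  have hθ1 : θ ≠ 1 := by
    rintro rfl
    exact hθ (map_one _)
  have h5 := hfix (Units.mk0 θ hθ0)
  have e1 : x.1 = 0 := by
    have h6 := congrArg Prod.fst h5
    change θ * x.1 = x.1 at h6
    have h7 : (θ - 1) * x.1 = 0 := by rw [sub_mul, h6, one_mul, sub_self]
    exact (mul_eq_zero.1 h7).resolve_left (sub_ne_zero.2 hθ1)
  have e3 : x.2.2 = 0 := by
    have h6 := congrArg (fun z => z.2.2) h5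
    change ((Units.mk0 θ hθ0)⁻¹ : Fˣ).val ^ Nat.card k * x.2.2 = x.2.2 at h6
    rw [Units.val_inv_eq_inv_val, inv_pow, Units.val_mk0, ← T.sg_pow] at h6
    have h7 : ((T.sg θ)⁻¹ - 1) * x.2.2 = 0 := by rw [sub_mul, h6, one_mul, sub_self]
    refine (mul_eq_zero.1 h7).resolve_left (sub_ne_zero.2 ?_)
    intro h8
    have h9 := inv_eq_one.1 h8
    apply hθ1
    rw [← T.sg_sg θ, h9, map_one]
  have e2 : x.2.1 = 0 := by
    have h6 := congrArg (fun z => z.2.1) h5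
    change θ ^ (Nat.card k - 1) * x.2.1 = x.2.1 at h6
    have hq : 1 ≤ Nat.card k := by have := T.four; omega
    have h8 : θ ^ (Nat.card k - 1) * θ = T.sg θ := by
      rw [T.sg_pow, ← pow_succ, Nat.sub_add_cancel hq]
    have h9 : (T.sg θ - θ) * x.2.1 = 0 := by
      rw [← h8]
      linear_combination θ * h6
    exact (mul_eq_zero.1 h9).resolve_left (sub_ne_zero.2 hθ)
  rw [← D.w_eq s hsQ, ← hxs]
  have : x = 0 := Prod.ext e1 (Prod.ext e2 e3)
  rw [this, em0]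

end

end Cfsg.Agent.RankTwoClose.UFive.LSide

end

section


/-!
# `U₅(q)`: the side `L` from THEOREM UNI: all fields

`LSide S L U Q V R A n₀ w₀` = the fields of `QInput.QIn` which do not mention `X` and `O`;
`exists_LSide` : `Out`, `GIn`, `Fld` and `dim Φ = 1` give it with `L = LL V R Q Q'` (the group generated by all
`N_G(R)`-conjugates of `U`), `U = UU V Q Q' = Q C_{Q'}(V)`.
-/

set_option autoImplicit false
set_option linter.unusedSectionVars false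

open Subgroup

namespace Cfsg.Agent.RankTwoClose.UFive.LSide

open Cfsg.Agent.Omega.NOne.SU
open Cfsg.Agent.RankTwoClose.UFour (cj mem_norm_iff)

variable {G : Type*} [Group G] {k F : Type*} [Field k] [Field F] [Algebra k F]

/-- The fields of `QInput.QIn` of the side `L`. -/
structure LSide (S : Sylow 2 G) (L U Q V R A : Subgroup G) (n₀ w₀ : G) : Prop where
  aL : PanOf.Abs L U Q n₀
  sL : ∀ P ≤ L, IsPGroup 2 P → U ≤ P → P ≤ U
  US : U ≤ S
  SL : ∀ s ∈ S, ∀ l ∈ L, s * l * s⁻¹ ∈ L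
  NL : normalizer (R : Set G) ≤ normalizer (L : Set G)
  LV : ∀ g ∈ L, cj g U = U → cj g V = V
  /-- `N(R) ∩ N(V)` normalises `U` -/
  NU : ∀ g ∈ normalizer (R : Set G), g ∈ normalizer (V : Set G) → cj g U = U
  /-- `N(R) ∩ N(U)` normalises `V` -/
  NV : ∀ g ∈ normalizer (R : Set G), cj g U = U → cj g V = V
  /-- `N(R) = L (N(R) ∩ N(U))` -/
  tr : ∀ g ∈ normalizer (R : Set G), ∃ l ∈ L, cj (l⁻¹ * g) U = U
  VU : V ≤ U
  LR : ∀ l ∈ L, ∀ z ∈ R, l * z = z * l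
  comm : ⁅Q, Q⁆ = R
  sq : ∀ x ∈ Q, x * x ∈ R
  irr : ∀ N ≤ Q, (∀ l ∈ L, ∀ x ∈ N, l * x * l⁻¹ ∈ N) → N ≤ R ∨ Q ≤ N ⊔ R
  opp : ∀ x ∈ V ⊓ Q, (∀ y ∈ cj n₀ (V ⊓ Q), x * y = y * x) → x ∈ R
  cD : Q.relIndex U ≤ Nat.card ↥((Q ⊓ centralizer (V : Set G)) ⊓ cj n₀ (Q ⊓ centralizer (V : Set G)))
  ruling : ∀ x ∈ V, x ∉ Q → ∃ y ∈ cj n₀ V, cj (x * y * x) (cj n₀ U) = U
  AL : A ≤ L
  AU : A ≤ normalizer (U : Set G)
  Aodd : Odd (Nat.card A)
  Aab : ∀ a ∈ A, ∀ b ∈ A, a * b = b * a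
  AB : ∀ g ∈ L, cj g U = U → g ∈ U ⊔ A
  wQ : w₀ ∈ Q
  cyc : Q ≤ closure {x | ∃ a ∈ A, x = a * w₀ * a⁻¹} ⊔ R
  cent : ∀ s ∈ S, (∀ a ∈ A, a * s = s * a) → s ∈ R

variable {T : Quad k F} {S : Sylow 2 G} {V R Q Q' : Subgroup G} {v : k → F → k → G} {p p' : G → F}
    {Φ : Type*} [AddCommGroup Φ] [Module F Φ] {φ χ : G → Φ} {hm : Φ → Φ → F}
    {W : Type*} [AddCommGroup W] [Module F W] {w : G → W} {g : W → W → F} {f₀ : W}
    {ι : Φ →ₗ[F] W}

/-- **The side `L`**: `dim Φ = 1`. -/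
theorem exists_LSide [Finite G] (D : Out T V R Q Q' v p φ χ hm w g f₀ ι) (I : GIn T S V R Q Q' v p p')
    (Fd : Fld T V R Q Q' v p φ χ) (h1 : Module.finrank F Φ = 1) :
    ∃ (A : Subgroup G) (n₀ w₀ : G), LSide S (LL V R Q Q') (UU V Q Q') Q V R A n₀ w₀ := by
  have hk2 : CharP k 2 := CharTwo.of_one_ne_zero_of_two_eq_zero one_ne_zero I.h2
  obtain ⟨x₀, hne, hx'⟩ := finrank_eq_one_iff'.1 h1
  have hx : ∀ x : Φ, ∃ s : F, x = s • x₀ := fun x => by
    obtain ⟨s, hs⟩ := hx' x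
    exact ⟨s, hs.symm⟩
  obtain ⟨n₀, N⟩ := exists_sw D I
  obtain ⟨A, HA⟩ := exists_A D I hx hne N Fd
  obtain ⟨w₀, hw₀, hcyc⟩ := cyc D I hx hne N HA Fd
  refine ⟨A, n₀, w₀, ?_⟩
  exact
    { aL := abs D I hx hne N Fd
      sL := sylow_LL D I hx hne N Fd
      US := US D I
      SL := SL I
      NL := NR_le_NLL V R Q Q'
      LV := LNV D I Fd
      NU := fun g h1 h2 => norm_of_NV D I h1 h2
      NV := by
        intro c hN h
        obtain ⟨s, hs⟩ := stab_of_norm D I Fd hN h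
        apply mem_norm_iff.1
        apply D.stab c hN
        exact ⟨s, by rw [← hs, D.rho_w I hN (I.E_le _ _)]⟩
      tr := by
        intro c hN
        rcases move D I hx N Fd hN with h | ⟨u, hu, h⟩
        · exact ⟨1, one_mem _, by rw [inv_one, one_mul]; exact h⟩
        · refine ⟨u * n₀, mul_mem (UU_le_LL V R Q Q' hu) N.mem, ?_⟩
          rw [UFour.cj_mul, h, UFour.cj_inv_cj]
      VU := V_le_UU I
      LR := LR D I
      comm := comm_Q D I
      sq := sq_Q D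
      irr := irr D I hx hne N Fd
      opp := opp D I N
      cD := cD D I N
      ruling := ruling D I N
      AL := A_LL D HA
      AU := A_norm D HA
      Aodd := HA.odd
      Aab := A_comm D I hx hne N HA Fd
      AB := fun g hg h => norm_le D I hx hne N HA Fd hg h
      wQ := hw₀
      cyc := hcyc
      cent := cent D I hx hne N HA Fd }

end Cfsg.Agent.RankTwoClose.UFive.LSide

end
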